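import Mathlib
import Groth.Prelude.Def_SpSeq

/-! # Generalities: cokernel of an inclusion of images; transport of abutments along isomorphisms -/

universe v u
open CategoryTheory Limits

namespace Groth.Agent.LD.GSS

section GenLemma
variable {C : Type u} [Category.{v} C] [Abelian C]

/-- the comparison map `im a ⟶ E` for an epi-mono factorisation `U ↠ E ↪ W` of `a ≫ c`. -/
noncomputable def imToE {U A W E : C} (a : U ⟶ A) (c : A ⟶ W)
    (π : U ⟶ E) (ι : E ⟶ W) [Epi π] [Mono ι] (fac : π ≫ ι = a ≫ c) :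
    (imageSubobject a : C) ⟶ E :=
  haveI : StrongEpi (factorThruImageSubobject a) := strongEpi_of_epi _
  (show CommSq π (factorThruImageSubobject a) ι ((imageSubobject a).arrow ≫ c) from
    ⟨by rw [fac, imageSubobject_arrow_comp_assoc]⟩).lift

@[reassoc (attr := simp)]
lemma factorThru_imToE {U A W E : C} (a : U ⟶ A) (c : A ⟶ W)
    (π : U ⟶ E) (ι : E ⟶ W) [Epi π] [Mono ι] (fac : π ≫ ι = a ≫ c) :
    factorThruImageSubobject a ≫ imToE a c π ι fac = π := by
  haveI : StrongEpi (factorThruImageSubobject a) := strongEpi_of_epi _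
  exact CommSq.fac_left _

@[reassoc (attr := simp)]
lemma imToE_ι {U A W E : C} (a : U ⟶ A) (c : A ⟶ W)
    (π : U ⟶ E) (ι : E ⟶ W) [Epi π] [Mono ι] (fac : π ≫ ι = a ≫ c) :
    imToE a c π ι fac ≫ ι = (imageSubobject a).arrow ≫ c := by
  haveI : StrongEpi (factorThruImageSubobject a) := strongEpi_of_epi _
  exact CommSq.fac_right _

instance {U A W E : C} (a : U ⟶ A) (c : A ⟶ W)
    (π : U ⟶ E) (ι : E ⟶ W) [Epi π] [Mono ι] (fac : π ≫ ι = a ≫ c) :
    Epi (imToE a c π ι fac) :=
  epi_of_epi_fac (factorThru_imToE a c π ι fac)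

/-- Key lemma: `im a / im b ≅ E` when `b, c` is exact and `U ↠ E ↪ W` factors `a ≫ c`. -/
theorem shortExact_im {U V A W E : C} (a : U ⟶ A) (b : V ⟶ A)
    (c : A ⟶ W) (w : b ≫ c = 0) (hex : (ShortComplex.mk b c w).Exact)
    (π : U ⟶ E) (ι : E ⟶ W) [Epi π] [Mono ι] (fac : π ≫ ι = a ≫ c)
    (hle : imageSubobject b ≤ imageSubobject a) :
    (ShortComplex.mk ((imageSubobject b).ofLE (imageSubobject a) hle) (imToE a c π ι fac)
      (by
        rw [← cancel_mono ι, Category.assoc, imToE_ι, Subobject.ofLE_arrow_assoc, zero_comp,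
          ← cancel_epi (factorThruImageSubobject b), imageSubobject_arrow_comp_assoc, w,
          comp_zero])).ShortExact := by
  refine ShortComplex.ShortExact.mk ?_
  rw [ShortComplex.exact_iff_exact_up_to_refinements]
  intro T x₂ hx₂
  dsimp at x₂ hx₂ ⊢
  have h1 : (x₂ ≫ (imageSubobject a).arrow) ≫ c = 0 := by
    rw [Category.assoc, ← imToE_ι a c π ι fac, reassoc_of% hx₂, zero_comp]
  obtain ⟨T', π', hπ', y, hy⟩ := hex.exact_up_to_refinements (x₂ ≫ (imageSubobject a).arrow) h1
  dsimp at y hy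
  refine ⟨T', π', hπ', y ≫ factorThruImageSubobject b, ?_⟩
  rw [← cancel_mono (imageSubobject a).arrow, Category.assoc, Category.assoc, Category.assoc,
    Subobject.ofLE_arrow, imageSubobject_arrow_comp, ← hy]

/-- `im a / im b ≅ E`. -/
noncomputable def cokerImIso {U V A W E : C} (a : U ⟶ A) (b : V ⟶ A)
    (c : A ⟶ W) (w : b ≫ c = 0) (hex : (ShortComplex.mk b c w).Exact)
    (π : U ⟶ E) (ι : E ⟶ W) [Epi π] [Mono ι] (fac : π ≫ ι = a ≫ c)
    (hle : imageSubobject b ≤ imageSubobject a) :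
    cokernel ((imageSubobject b).ofLE (imageSubobject a) hle) ≅ E :=
  IsColimit.coconePointUniqueUpToIso (colimit.isColimit _)
    (shortExact_im a b c w hex π ι fac hle).gIsCokernel

end GenLemma

section Transport
variable {C : Type u} [Category.{v} C] [Abelian C]

/-- iso of subquotients from equalities of subobjects. -/
noncomputable def subquotIsoOfEq {X : C} {Z Z' B B' : Subobject X} (h : B ≤ Z) (h' : B' ≤ Z')
    (hZ : Z = Z') (hB : B = B') : SpSeq.subquot Z B h ≅ SpSeq.subquot Z' B' h' := by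
  subst hZ hB; exact Iso.refl _

/-- push a subobject along an isomorphism. -/
noncomputable def pushSub {X X' : C} (e : X ≅ X') (Z : Subobject X) : Subobject X' :=
  Subobject.mk (Z.arrow ≫ e.hom)

lemma pushSub_mono {X X' : C} (e : X ≅ X') {B Z : Subobject X} (h : B ≤ Z) :
    pushSub e B ≤ pushSub e Z :=
  Subobject.mk_le_mk_of_comm (B.ofLE Z h) (by rw [Subobject.ofLE_arrow_assoc])

lemma pushSub_top {X X' : C} (e : X ≅ X') : pushSub e (⊤ : Subobject X) = ⊤ := by
  haveI : IsIso ((⊤ : Subobject X).arrow ≫ e.hom) := inferInstance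
  exact Subobject.mk_eq_top_of_isIso _

lemma pushSub_bot {X X' : C} (e : X ≅ X') : pushSub e (⊥ : Subobject X) = ⊥ := by
  rw [pushSub, Subobject.mk_eq_bot_iff_zero, Subobject.bot_arrow, zero_comp]

/-- subquotients are transported along isomorphisms. -/
noncomputable def subquotPushIso {X X' : C} (e : X ≅ X') (Z B : Subobject X) (h : B ≤ Z) :
    SpSeq.subquot Z B h ≅ SpSeq.subquot (pushSub e Z) (pushSub e B) (pushSub_mono e h) :=
  (cokernel.mapIso _ _ (Subobject.underlyingIso (B.arrow ≫ e.hom))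
    (Subobject.underlyingIso (Z.arrow ≫ e.hom)) (by
      rw [← cancel_mono (Z.arrow ≫ e.hom), Category.assoc, Category.assoc,
        Subobject.underlyingIso_hom_comp_eq_mk, Subobject.ofLE_arrow_assoc,
        Subobject.underlyingIso_hom_comp_eq_mk]
      exact Subobject.ofLE_arrow _)).symm

/-- transport abutment data along isomorphisms of the abutment objects. -/
noncomputable def abutmentOfIso {r₀ : ℤ} {E : CohomologicalSpectralSequence C r₀} {H H' : ℤ → C}
    (a : SpSeq.Abutment E H) (e : ∀ n, H n ≅ H' n) : SpSeq.Abutment E H' where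
  fil n p := pushSub (e n) (a.fil n p)
  anti n := fun _ _ h => pushSub_mono (e n) (a.anti n h)
  rk := a.rk
  stat := a.stat
  β pq := a.β pq ≪≫ subquotPushIso (e _) _ _ _

lemma abutmentOfIso_isFinite {r₀ : ℤ} {E : CohomologicalSpectralSequence C r₀} {H H' : ℤ → C}
    (a : SpSeq.Abutment E H) (e : ∀ n, H n ≅ H' n) (n : ℤ) (h : a.IsFinite n) :
    (abutmentOfIso a e).IsFinite n := by
  obtain ⟨⟨x, hx⟩, ⟨y, hy⟩⟩ := h
  refine ⟨⟨x, ?_⟩, ⟨y, ?_⟩⟩
  · change pushSub (e n) (a.fil n x) = ⊤
    change a.fil n x = ⊤ at hx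
    rw [hx, pushSub_top]
  · change pushSub (e n) (a.fil n y) = ⊥
    change a.fil n y = ⊥ at hy
    rw [hy, pushSub_bot]

end Transport

end Groth.Agent.LD.GSS
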