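import Mathlib
import Groth.Prelude.Def_SpSeq
import Groth.Agent.Lib.Lead.GSS.Coker

/-! # Abutment of the `E₂` spectral sequence of a first-quadrant spectral object indexed by `EInt` -/

universe v u
open CategoryTheory Limits CategoryTheory.Abelian ComposableArrows

namespace Groth.Agent.LD.GSS

variable {C : Type u} [Category.{v} C] [Abelian C] (Y : SpectralObject C EInt)

instance subsingleton_hom_mk₁ {i j i' j' : EInt} (f : i ⟶ j) (f' : i' ⟶ j') :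
    Subsingleton (mk₁ f ⟶ mk₁ f') :=
  ⟨fun α β => by
    ext
    · exact Subsingleton.elim _ _
    · exact Subsingleton.elim _ _⟩

/-- the arrow `⊥ ≤ j`. -/
noncomputable abbrev botArrow (j : EInt) : ComposableArrows EInt 1 := mk₁ (homOfLE (bot_le : (⊥ : EInt) ≤ j))

/-- the abutment object `H^n(⊥ ≤ ⊤)`. -/
noncomputable abbrev abut (n : ℤ) : C := (Y.H n).obj (botArrow ⊤)

/-- `H^n(⊥ ≤ j) ⟶ H^n(⊥ ≤ ⊤)`. -/
noncomputable def toAbut (n : ℤ) (j : EInt) : (Y.H n).obj (botArrow j) ⟶ abut Y n :=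
  (Y.H n).map (twoδ₂Toδ₁' ⊥ j ⊤ bot_le le_top)

/-- `H^n(⊥ ≤ j) ⟶ H^n(⊥ ≤ j')`. -/
noncomputable def botMap (n : ℤ) {j j' : EInt} (h : j ≤ j') :
    (Y.H n).obj (botArrow j) ⟶ (Y.H n).obj (botArrow j') :=
  (Y.H n).map (twoδ₂Toδ₁' ⊥ j j' bot_le h)

lemma botMap_toAbut (n : ℤ) {j j' : EInt} (h : j ≤ j') :
    botMap Y n h ≫ toAbut Y n j' = toAbut Y n j := by
  dsimp only [botMap, toAbut]
  rw [← Functor.map_comp]
  congr 1

/-- the filtration step indexed by `j : EInt`. -/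
noncomputable def Fsub (n : ℤ) (j : EInt) : Subobject (abut Y n) := imageSubobject (toAbut Y n j)

lemma Fsub_mono (n : ℤ) {j j' : EInt} (h : j ≤ j') : Fsub Y n j ≤ Fsub Y n j' :=
  SpSeq.FilCx.imageSubobject_le_of_fac (botMap Y n h) (botMap_toAbut Y n h)

/-- the filtration on the abutment. -/
noncomputable def fil (n : ℤ) (p : ℤ) : Subobject (abut Y n) := Fsub Y n ((n - p + 1 : ℤ) : EInt)

lemma fil_anti (n : ℤ) : Antitone (fil Y n) := fun p p' h =>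
  Fsub_mono Y n (by
    have : n - p' + 1 ≤ n - p + 1 := by lia
    exact WithBotTop.coe_le_coe.2 this)

lemma coe_le_succ (q : ℤ) : ((q : ℤ) : EInt) ≤ ((q + 1 : ℤ) : EInt) :=
  WithBotTop.coe_le_coe.2 (by lia)

/-- `E^n(⊥ ≤ q ≤ q+1 ≤ ⊤)`. -/
noncomputable abbrev EInf (n q : ℤ) : C :=
  Y.E (homOfLE (bot_le : (⊥ : EInt) ≤ ((q : ℤ) : EInt))) (homOfLE (coe_le_succ q))
    (homOfLE (le_top : ((q + 1 : ℤ) : EInt) ≤ ⊤)) (n - 1) n (n + 1)

/-- `gr ≅ E_∞`. -/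
noncomputable def grIso (n q : ℤ) :
    SpSeq.subquot (Fsub Y n ((q + 1 : ℤ) : EInt)) (Fsub Y n ((q : ℤ) : EInt))
      (Fsub_mono Y n (coe_le_succ q)) ≅ EInf Y n q :=
  cokerImIso (toAbut Y n ((q + 1 : ℤ) : EInt)) (toAbut Y n ((q : ℤ) : EInt))
    ((Y.H n).map (twoδ₁Toδ₀' ⊥ ((q : ℤ) : EInt) ⊤ bot_le le_top))
    (Y.zero₂ (homOfLE bot_le) (homOfLE le_top) (homOfLE bot_le) rfl n)
    (Y.exact₂ (homOfLE bot_le) (homOfLE le_top) (homOfLE bot_le) rfl n)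
    (Y.toCycles (homOfLE (bot_le : (⊥ : EInt) ≤ ((q : ℤ) : EInt))) (homOfLE (coe_le_succ q))
        (homOfLE bot_le) rfl n ≫
      Y.πE (homOfLE (bot_le : (⊥ : EInt) ≤ ((q : ℤ) : EInt))) (homOfLE (coe_le_succ q))
        (homOfLE (le_top : ((q + 1 : ℤ) : EInt) ≤ ⊤)) (n - 1) n (n + 1))
    (Y.ιE (homOfLE (bot_le : (⊥ : EInt) ≤ ((q : ℤ) : EInt))) (homOfLE (coe_le_succ q))
        (homOfLE (le_top : ((q + 1 : ℤ) : EInt) ≤ ⊤)) (n - 1) n (n + 1) ≫
      Y.fromOpcycles (homOfLE (coe_le_succ q)) (homOfLE (le_top : ((q + 1 : ℤ) : EInt) ≤ ⊤))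
        (homOfLE le_top) rfl n)
    (by
      rw [Category.assoc, Y.πE_ιE_assoc _ _ _ (n - 1) n (n + 1), Y.toCycles_i_assoc,
        Y.p_fromOpcycles]
      dsimp only [toAbut]
      rw [← Functor.map_comp, ← Functor.map_comp]
      congr 1)
    (Fsub_mono Y n (coe_le_succ q))

section FQ

variable [Y.IsFirstQuadrant]

lemma Fsub_eq_bot (n : ℤ) (j : EInt) (hj : j ≤ ((0 : ℤ) : EInt)) : Fsub Y n j = ⊥ := by
  have h : toAbut Y n j = 0 := (Y.isZero₁_of_isFirstQuadrant ⊥ j bot_le hj n).eq_of_src _ _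
  rw [Fsub, ← Subobject.mk_arrow (imageSubobject (toAbut Y n j)), Subobject.mk_eq_bot_iff_zero,
    ← cancel_epi (factorThruImageSubobject (toAbut Y n j)), imageSubobject_arrow_comp, h,
    comp_zero]

lemma epi_toAbut (n : ℤ) (j : EInt) (hj : ((n : ℤ) : EInt) < j) : Epi (toAbut Y n j) :=
  (Y.exact₂ (homOfLE (bot_le : (⊥ : EInt) ≤ j)) (homOfLE (le_top : j ≤ ⊤)) (homOfLE bot_le) rfl
    n).epi_f ((Y.isZero₂_of_isFirstQuadrant j ⊤ le_top n hj).eq_of_tgt _ _)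

lemma Fsub_eq_top (n : ℤ) (j : EInt) (hj : ((n : ℤ) : EInt) < j) : Fsub Y n j = ⊤ := by
  haveI := epi_toAbut Y n j hj
  haveI : Epi (imageSubobject (toAbut Y n j)).arrow :=
    epi_of_epi_fac (imageSubobject_arrow_comp (toAbut Y n j))
  haveI : IsIso (imageSubobject (toAbut Y n j)).arrow := isIso_of_mono_of_epi _
  exact Subobject.eq_top_of_isIso_arrow (imageSubobject (toAbut Y n j))

/-- the page objects in the stable range are `E_∞`. -/
noncomputable def pageIso (p q r : ℤ) (hr : 2 ≤ r) (hp : p < r) (hq : q + 2 ≤ r) :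
    (Y.E₂SpectralSequence.page r hr).X (p, q) ≅ EInf Y (p + q) q :=
  Y.spectralSequencePageXIso SpectralObject.coreE₂Cohomological r hr (p, q)
      ((q - r + 2 : ℤ) : EInt) ((q : ℤ) : EInt) ((q + 1 : ℤ) : EInt) ((q + r - 1 : ℤ) : EInt)
      rfl rfl rfl rfl (p + q - 1) (p + q) (p + q + 1) rfl ≪≫
    (Y.isoMapFourδ₁Toδ₀' ⊥ ((q - r + 2 : ℤ) : EInt) ((q : ℤ) : EInt) ((q + 1 : ℤ) : EInt)
      ((q + r - 1 : ℤ) : EInt) bot_le (WithBotTop.coe_le_coe.2 (by lia)) (coe_le_succ q)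
      (WithBotTop.coe_le_coe.2 (by lia)) (p + q - 1) (p + q) (p + q + 1)
      (Y.isZero₁_of_isFirstQuadrant ⊥ _ bot_le (WithBotTop.coe_le_coe.2 (by lia)) _)).symm ≪≫
    Y.isoMapFourδ₄Toδ₃' ⊥ ((q : ℤ) : EInt) ((q + 1 : ℤ) : EInt)
      ((q + r - 1 : ℤ) : EInt) ⊤ bot_le (coe_le_succ q)
      (WithBotTop.coe_le_coe.2 (by lia)) le_top (p + q - 1) (p + q) (p + q + 1)
      (Y.isZero₂_of_isFirstQuadrant _ ⊤ le_top _ (WithBotTop.coe_lt_coe.2 (by lia)))

lemma isZero_page_of_fst_neg (r : ℤ) (hr : 2 ≤ r) (pq : ℤ × ℤ) (hp : pq.1 < 0) :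
    IsZero ((Y.E₂SpectralSequence.page r hr).X pq) :=
  SpectralObject.isZero_spectralSequence_page_X_of_isZero_H' _ _ _ hr _
    (Y.isZero₂_of_isFirstQuadrant _ _ _ _ (by
      simp only [SpectralObject.coreE₂Cohomological_deg, SpectralObject.coreE₂Cohomological_i₁]
      exact WithBotTop.coe_lt_coe.2 (by lia)))

lemma isZero_page_of_snd_neg (r : ℤ) (hr : 2 ≤ r) (pq : ℤ × ℤ) (hq : pq.2 < 0) :
    IsZero ((Y.E₂SpectralSequence.page r hr).X pq) :=
  SpectralObject.isZero_spectralSequence_page_X_of_isZero_H' _ _ _ hr _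
    (Y.isZero₁_of_isFirstQuadrant _ _ _ (by
      simp only [SpectralObject.coreE₂Cohomological_i₂]
      exact WithBotTop.coe_le_coe.2 (by lia)) _)

/-- the page from which position `pq` is stationary. -/
def rk (pq : ℤ × ℤ) : ℤ := max 2 (max (pq.1 + 1) (pq.2 + 2))

lemma two_le_rk (pq : ℤ × ℤ) : 2 ≤ rk pq := le_max_left _ _
lemma fst_lt_rk (pq : ℤ × ℤ) : pq.1 < rk pq := by
  have := le_max_left (pq.1 + 1) (pq.2 + 2)
  have := le_max_right 2 (max (pq.1 + 1) (pq.2 + 2))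
  unfold rk; lia
lemma snd_lt_rk (pq : ℤ × ℤ) : pq.2 + 2 ≤ rk pq := by
  have := le_max_right (pq.1 + 1) (pq.2 + 2)
  have := le_max_right 2 (max (pq.1 + 1) (pq.2 + 2))
  unfold rk; lia

lemma stat (pq : ℤ × ℤ) : SpSeq.StationaryAt Y.E₂SpectralSequence pq (rk pq) := by
  refine ⟨two_le_rk pq, fun r' h₀ hr' => ⟨?_, ?_⟩⟩
  · apply IsZero.eq_of_src
    apply isZero_page_of_fst_neg
    have := fst_lt_rk pq
    change pq.1 - r' < 0
    lia
  · apply IsZero.eq_of_tgt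
    apply isZero_page_of_snd_neg
    have := snd_lt_rk pq
    change pq.2 + (1 - r') < 0
    lia

/-- The abutment data. -/
noncomputable def abutment : SpSeq.Abutment Y.E₂SpectralSequence (fun n => abut Y n) where
  fil n := fil Y n
  anti n := fil_anti Y n
  rk := rk
  stat := stat Y
  β pq := pageIso Y pq.1 pq.2 (rk pq) (two_le_rk pq) (fst_lt_rk pq) (snd_lt_rk pq) ≪≫
    (grIso Y (pq.1 + pq.2) pq.2).symm ≪≫
    subquotIsoOfEq _ _
      (by
        change Fsub Y _ _ = Fsub Y _ _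
        congr 2; lia)
      (by
        change Fsub Y _ _ = Fsub Y _ _
        congr 2; lia)

lemma abutment_isFinite (n : ℤ) : (abutment Y).IsFinite n := by
  refine ⟨⟨0, ?_⟩, ⟨n + 1, ?_⟩⟩
  · exact Fsub_eq_top Y n _ (WithBotTop.coe_lt_coe.2 (by lia))
  · exact Fsub_eq_bot Y n _ (WithBotTop.coe_le_coe.2 (by lia))

lemma isBounded : SpSeq.IsBounded Y.E₂SpectralSequence := by
  intro n
  refine (Set.finite_Icc (0 : ℤ) n).subset ?_
  intro p hp
  simp only [Set.mem_setOf_eq] at hp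
  by_contra h
  simp only [Set.mem_Icc, not_and_or, not_le] at h
  rcases h with h | h
  · exact hp (isZero_page_of_fst_neg Y 2 le_rfl (p, n - p) h)
  · exact hp (isZero_page_of_snd_neg Y 2 le_rfl (p, n - p) (by change n - p < 0; lia))

/-- the `E₂` terms. -/
noncomputable def page2Iso (p q : ℤ) :
    (Y.E₂SpectralSequence.page 2 le_rfl).X (p, q) ≅
      (Y.H (p + q)).obj (mk₁ (homOfLE (coe_le_succ q))) :=
  Y.spectralSequencePageXIso SpectralObject.coreE₂Cohomological 2 le_rfl (p, q)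
      ((q : ℤ) : EInt) ((q : ℤ) : EInt) ((q + 1 : ℤ) : EInt) ((q + 1 : ℤ) : EInt)
      (by simp) rfl rfl (by
        simp only [SpectralObject.coreE₂Cohomological_i₃]
        congr 1; lia) (p + q - 1) (p + q) (p + q + 1) rfl ≪≫
    Y.EIsoH (homOfLE (coe_le_succ q)) (p + q - 1) (p + q) (p + q + 1)

lemma isZero_abut_of_neg (n : ℤ) (hn : n < 0) : IsZero (abut Y n) :=
  (Y.exact₂ (homOfLE (bot_le : (⊥ : EInt) ≤ ((0 : ℤ) : EInt))) (homOfLE le_top)
    (homOfLE bot_le) rfl n).isZero_X₂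
    ((Y.isZero₁_of_isFirstQuadrant ⊥ _ bot_le le_rfl n).eq_of_src _ _)
    ((Y.isZero₂_of_isFirstQuadrant _ ⊤ le_top n (WithBotTop.coe_lt_coe.2 hn)).eq_of_tgt _ _)

/-- Summary: a first-quadrant spectral object indexed by `EInt` gives a bounded `E₂` spectral
sequence with abutment `H^n(⊥ ≤ ⊤)` (finite filtrations) and `E₂^{p,q} ≅ H^{p+q}(q ≤ q+1)`. -/
theorem exists_abutment {H' : ℤ → C} (e : ∀ n, abut Y n ≅ H' n) :
    ∃ (a : SpSeq.Abutment Y.E₂SpectralSequence H'), (∀ n, a.IsFinite n) ∧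
      SpSeq.IsBounded Y.E₂SpectralSequence ∧
      ∀ p q : ℤ, Nonempty ((Y.E₂SpectralSequence.page 2 le_rfl).X (p, q) ≅
        (Y.H (p + q)).obj (mk₁ (homOfLE (coe_le_succ q)))) :=
  ⟨abutmentOfIso (abutment Y) e,
    fun n => abutmentOfIso_isFinite _ _ n (abutment_isFinite Y n), isBounded Y,
    fun p q => ⟨page2Iso Y p q⟩⟩

end FQ

end Groth.Agent.LD.GSS
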