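import Mathlib

/-! # The abelian spectral object obtained by applying a homological functor to a spectral object
in a triangulated category -/

open CategoryTheory Limits Pretriangulated ComposableArrows

namespace Groth.Agent.LD.GSS

variable {T : Type*} [Category T] [HasZeroObject T] [HasShift T ℤ] [Preadditive T]
  [∀ n : ℤ, (shiftFunctor T n).Additive] [Pretriangulated T]
  {ι : Type*} [Category ι] {A : Type*} [Category A] [Abelian A]
  (X : Triangulated.SpectralObject T ι) (F : T ⥤ A) [F.IsHomological] [F.ShiftSequence ℤ]

/-- apply a homological functor to a triangulated spectral object. -/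
noncomputable def mapHomological : Abelian.SpectralObject A ι where
  H n := X.ω₁ ⋙ F.shift n
  δ' n₀ n₁ h :=
    { app := fun D => F.homologySequenceδ (X.ω₂.obj D) n₀ n₁ h
      naturality := fun D D' φ =>
        F.homologySequenceδ_naturality _ _ (X.ω₂.map φ) n₀ n₁ h }
  exact₁' n₀ n₁ h D :=
    (F.homologySequence_exact₁ _ (X.ω₂_obj_distinguished D) n₀ n₁ h).exact_toComposableArrows
  exact₂' n D :=
    (F.homologySequence_exact₂ _ (X.ω₂_obj_distinguished D) n).exact_toComposableArrows
  exact₃' n₀ n₁ h D :=
    (F.homologySequence_exact₃ _ (X.ω₂_obj_distinguished D) n₀ n₁ h).exact_toComposableArrows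

@[simp]
lemma mapHomological_H_obj (n : ℤ) (D : ComposableArrows ι 1) :
    ((mapHomological X F).H n).obj D = (F.shift n).obj (X.ω₁.obj D) := rfl

end Groth.Agent.LD.GSS
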