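import Mathlib

/-! # Shrinking a spectral object of abelian groups to a smaller universe -/

universe w v
open CategoryTheory Limits ComposableArrows

namespace Groth.Agent.LD.GSS

section

variable {G G' G'' : Type w} [AddCommGroup G] [AddCommGroup G'] [AddCommGroup G'']
  [Small.{v} G] [Small.{v} G'] [Small.{v} G'']

/-- conjugate an additive map by the `Shrink` equivalences. -/
noncomputable def shrinkHom (f : G →+ G') : Shrink.{v} G →+ Shrink.{v} G' :=
  (Shrink.addEquiv (α := G')).symm.toAddMonoidHom.comp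
    (f.comp (Shrink.addEquiv (α := G)).toAddMonoidHom)

@[simp]
lemma shrinkHom_apply (f : G →+ G') (x : Shrink.{v} G) :
    shrinkHom f x = (Shrink.addEquiv (α := G')).symm (f (Shrink.addEquiv (α := G) x)) := rfl

lemma shrinkHom_id : shrinkHom (AddMonoidHom.id G) = AddMonoidHom.id (Shrink.{v} G) := by
  ext x; simp

lemma shrinkHom_comp (f : G →+ G') (g : G' →+ G'') :
    shrinkHom.{w, v} (g.comp f) = (shrinkHom.{w, v} g).comp (shrinkHom.{w, v} f) := by
  ext x; simp

end

variable {ι : Type*} [Category ι] (Y' : Abelian.SpectralObject AddCommGrpCat.{w} ι)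
  [hs : ∀ (n : ℤ) (D : ComposableArrows ι 1), Small.{v} ((Y'.H n).obj D)]

/-- shrink a morphism between values of the `H n`. -/
noncomputable def shrinkMap {n n' : ℤ} {D D' : ComposableArrows ι 1}
    (f : (Y'.H n).obj D ⟶ (Y'.H n').obj D') :
    AddCommGrpCat.of (Shrink.{v} ((Y'.H n).obj D)) ⟶
      AddCommGrpCat.of (Shrink.{v} ((Y'.H n').obj D')) :=
  AddCommGrpCat.ofHom (shrinkHom.{w, v} f.hom)

lemma shrinkMap_apply {n n' : ℤ} {D D' : ComposableArrows ι 1}
    (f : (Y'.H n).obj D ⟶ (Y'.H n').obj D') (x : Shrink.{v} ((Y'.H n).obj D)) :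
    (shrinkMap.{w, v} Y' f).hom x = (Shrink.addEquiv).symm (f.hom (Shrink.addEquiv x)) := rfl

lemma shrinkMap_id (n : ℤ) (D : ComposableArrows ι 1) :
    shrinkMap.{w, v} Y' (𝟙 ((Y'.H n).obj D)) = 𝟙 _ :=
  congrArg AddCommGrpCat.ofHom shrinkHom_id

lemma shrinkMap_comp {n n' n'' : ℤ} {D D' D'' : ComposableArrows ι 1}
    (f : (Y'.H n).obj D ⟶ (Y'.H n').obj D') (g : (Y'.H n').obj D' ⟶ (Y'.H n'').obj D'') :
    shrinkMap.{w, v} Y' (f ≫ g) = shrinkMap.{w, v} Y' f ≫ shrinkMap.{w, v} Y' g :=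
  congrArg AddCommGrpCat.ofHom (shrinkHom_comp _ _)

/-- the shrunk functor `H n`. -/
noncomputable def shrinkH (n : ℤ) : ComposableArrows ι 1 ⥤ AddCommGrpCat.{v} where
  obj D := AddCommGrpCat.of (Shrink.{v} ((Y'.H n).obj D))
  map φ := shrinkMap.{w, v} Y' ((Y'.H n).map φ)
  map_id D := by
    rw [CategoryTheory.Functor.map_id]
    exact shrinkMap_id Y' n D
  map_comp φ ψ := by
    rw [CategoryTheory.Functor.map_comp]
    exact shrinkMap_comp Y' _ _

/-- the comparison equivalence. -/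
noncomputable def shrinkEquiv (n : ℤ) (D : ComposableArrows ι 1) :
    (shrinkH.{w, v} Y' n).obj D ≃+ (Y'.H n).obj D :=
  Shrink.addEquiv

/-- exactness is preserved by shrinking. -/
lemma shrink_exact {n n' n'' : ℤ} {D D' D'' : ComposableArrows ι 1}
    (f : (Y'.H n).obj D ⟶ (Y'.H n').obj D') (g : (Y'.H n').obj D' ⟶ (Y'.H n'').obj D'')
    (h : (mk₂ f g).Exact) :
    (mk₂ (shrinkMap.{w, v} Y' f) (shrinkMap.{w, v} Y' g)).Exact := by
  have hz : f ≫ g = 0 := h.toIsComplex.zero 0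
  have hex : (ShortComplex.mk f g hz).Exact := h.exact 0
  rw [ShortComplex.ab_exact_iff] at hex
  have hz' : shrinkMap.{w, v} Y' f ≫ shrinkMap.{w, v} Y' g = 0 := by
    rw [← shrinkMap_comp, hz]
    refine AddCommGrpCat.hom_ext (AddMonoidHom.ext fun x => ?_)
    change (Shrink.addEquiv).symm ((0 : _ →+ _) (Shrink.addEquiv x)) = 0
    simp
  refine (ShortComplex.Exact.exact_toComposableArrows (S := ShortComplex.mk _ _ hz') ?_)
  rw [ShortComplex.ab_exact_iff]
  intro x₂ hx₂
  change (Shrink.addEquiv).symm (g.hom (Shrink.addEquiv x₂)) = 0 at hx₂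
  have h0 : g.hom (Shrink.addEquiv x₂) = 0 := by
    have := congrArg (Shrink.addEquiv (α := (Y'.H n'').obj D'')) hx₂
    simpa using this
  obtain ⟨x₁, hx₁⟩ := hex (Shrink.addEquiv x₂) h0
  refine ⟨(Shrink.addEquiv).symm x₁, ?_⟩
  change (Shrink.addEquiv).symm (f.hom (Shrink.addEquiv ((Shrink.addEquiv).symm x₁))) = x₂
  have : f.hom x₁ = Shrink.addEquiv x₂ := hx₁
  rw [AddEquiv.apply_symm_apply, this, AddEquiv.symm_apply_apply]

/-- the shrunk spectral object. -/
noncomputable def shrinkSpec : Abelian.SpectralObject AddCommGrpCat.{v} ι where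
  H := shrinkH.{w, v} Y'
  δ' n₀ n₁ h :=
    { app := fun D => shrinkMap.{w, v} Y' (n := n₀) (n' := n₁)
        (D := (functorArrows ι 1 2 2).obj D) (D' := (functorArrows ι 0 1 2).obj D)
        ((Y'.δ' n₀ n₁ h).app D)
      naturality := fun D D' φ => by
        have := (Y'.δ' n₀ n₁ h).naturality φ
        dsimp only [Functor.comp_obj, Functor.comp_map] at this ⊢
        change shrinkMap.{w, v} Y' _ ≫ shrinkMap.{w, v} Y' _ =
          shrinkMap.{w, v} Y' _ ≫ shrinkMap.{w, v} Y' _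
        rw [← shrinkMap_comp, ← shrinkMap_comp, this] }
  exact₁' n₀ n₁ h D := shrink_exact Y' _ _ (Y'.exact₁' n₀ n₁ h D)
  exact₂' n D := shrink_exact Y' _ _ (Y'.exact₂' n D)
  exact₃' n₀ n₁ h D := shrink_exact Y' _ _ (Y'.exact₃' n₀ n₁ h D)

/-- vanishing transfers. -/
lemma isZero_shrinkSpec_H (n : ℤ) (D : ComposableArrows ι 1) (h : IsZero ((Y'.H n).obj D)) :
    IsZero (((shrinkSpec.{w, v} Y').H n).obj D) := by
  haveI : Subsingleton ((Y'.H n).obj D) := AddCommGrpCat.subsingleton_of_isZero h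
  haveI : Subsingleton (Shrink.{v} ((Y'.H n).obj D)) := (Shrink.addEquiv).toEquiv.subsingleton
  exact AddCommGrpCat.isZero_of_subsingleton (AddCommGrpCat.of (Shrink.{v} ((Y'.H n).obj D)))

end Groth.Agent.LD.GSS
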