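import Mathlib
import Groth.Agent.Lib.Lead.GSS.MapHom
import Groth.Agent.Lib.Lead.GSS.Abut
import Groth.Agent.Lib.Lead.GSS.Shrink

/-! # The spectral object `Hom_D(P, τ_{[i,j)} X [n])` -/

universe w v u
open CategoryTheory Limits Opposite DerivedCategory ComposableArrows

namespace Groth.Agent.LD.GSS

variable {B : Type u} [Category.{v} B] [Abelian B] [HasDerivedCategory.{w} B]

/-- `P[0]` in the derived category. -/
noncomputable abbrev SP (P : B) : DerivedCategory B := (DerivedCategory.singleFunctor B 0).obj P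

/-- `Hom_D(P[0], -)`. -/
noncomputable abbrev homP (P : B) : DerivedCategory B ⥤ AddCommGrpCat.{w} :=
  preadditiveCoyoneda.obj (op (SP P))

/-- the spectral object in `AddCommGrpCat.{w}`. -/
noncomputable def bigSpec (P : B) (X : DerivedCategory B) :
    Abelian.SpectralObject AddCommGrpCat.{w} EInt :=
  mapHomological (DerivedCategory.TStructure.t.spectralObject X) (homP P)

/-- the truncation `τ_{≥ i} τ_{< j} X`. -/
noncomputable abbrev trunc (X : DerivedCategory B) (i j : EInt) : DerivedCategory B :=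
  (TStructure.t.eTruncGE.obj i).obj ((TStructure.t.eTruncLT.obj j).obj X)

lemma bigSpec_H_obj (P : B) (X : DerivedCategory B) (n : ℤ) {i j : EInt} (hij : i ≤ j) :
    ((bigSpec P X).H n).obj (mk₁ (homOfLE hij)) =
      AddCommGrpCat.of (SP P ⟶ (trunc X i j)⟦n⟧) := rfl

lemma isZero_of_subsingleton_hom (P : B) (Y : DerivedCategory B) (n : ℤ)
    (h : ∀ f : SP P ⟶ Y⟦n⟧, f = 0) : IsZero (AddCommGrpCat.of (SP P ⟶ Y⟦n⟧)) := by
  haveI : Subsingleton (SP P ⟶ Y⟦n⟧) := ⟨fun f g => by rw [h f, h g]⟩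
  exact AddCommGrpCat.isZero_of_subsingleton _

lemma succ_le_of_lt (n : ℤ) (i : EInt) (h : ((n : ℤ) : EInt) < i) : (((n + 1 : ℤ)) : EInt) ≤ i := by
  induction i using WithBotTop.rec with
  | bot => simp at h
  | coe i =>
    simp only [WithBotTop.coe_lt_coe] at h
    exact WithBotTop.coe_le_coe.2 (by lia)
  | top => exact le_top

instance (P : B) (X : DerivedCategory B) [X.IsGE 0] : (bigSpec P X).IsFirstQuadrant where
  isZero₁ i j hij hj n := by
    rw [bigSpec_H_obj]
    apply isZero_of_subsingleton_hom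
    intro f
    have h0 : IsZero ((TStructure.t.eTruncLT.obj j).obj X) :=
      TStructure.t.isZero_eTruncLT_obj_obj X 0 j hj
    have h1 : IsZero (trunc X i j) := Functor.map_isZero _ h0
    exact ((shiftFunctor (DerivedCategory B) n).map_isZero h1).eq_of_tgt _ _
  isZero₂ i j hij n hi := by
    rw [bigSpec_H_obj]
    apply isZero_of_subsingleton_hom
    intro f
    haveI : TStructure.t.IsGE (trunc X i j) (n + 1) :=
      TStructure.t.isGE_eTruncGE_obj_obj (n + 1) i (succ_le_of_lt n i hi) _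
    haveI : TStructure.t.IsGE ((trunc X i j)⟦n⟧) 1 :=
      TStructure.t.isGE_shift (trunc X i j) (n + 1) n 1 (by lia)
    exact TStructure.t.zero_of_isLE_of_isGE f 0 1 (by lia) inferInstance inferInstance

section Homology

open DerivedCategory.TStructure

lemma isIso_homology_truncLTι (X : DerivedCategory B) (n q : ℤ) (hq : q < n) :
    IsIso ((homologyFunctor B q).map ((t.truncLTι n).app X)) := by
  have hT := t.triangleLTGE_distinguished n X
  haveI : ((t.triangleLTGE n).obj X).obj₃.IsGE n := inferInstance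
  haveI : Mono ((homologyFunctor B q).map ((t.truncLTι n).app X)) :=
    (HomologySequence.mono_homologyMap_mor₁_iff _ hT (q - 1) q (by lia)).2
      ((isZero_of_isGE _ n (q - 1) (by lia)).eq_of_src _ _)
  haveI : Epi ((homologyFunctor B q).map ((t.truncLTι n).app X)) :=
    (HomologySequence.epi_homologyMap_mor₁_iff _ hT q).2
      ((isZero_of_isGE _ n q hq).eq_of_tgt _ _)
  exact isIso_of_mono_of_epi _

lemma isIso_homology_truncGEπ (X : DerivedCategory B) (n q : ℤ) (hq : n ≤ q) :
    IsIso ((homologyFunctor B q).map ((t.truncGEπ n).app X)) := by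
  have hT := t.triangleLTGE_distinguished n X
  haveI : ((t.triangleLTGE n).obj X).obj₁.IsLE (n - 1) := inferInstance
  haveI : Mono ((homologyFunctor B q).map ((t.truncGEπ n).app X)) :=
    (HomologySequence.mono_homologyMap_mor₂_iff _ hT q).2
      ((isZero_of_isLE _ (n - 1) q (by lia)).eq_of_src _ _)
  haveI : Epi ((homologyFunctor B q).map ((t.truncGEπ n).app X)) :=
    (HomologySequence.epi_homologyMap_mor₂_iff _ hT q (q + 1) rfl).2
      ((isZero_of_isLE _ (n - 1) (q + 1) (by lia)).eq_of_tgt _ _)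
  exact isIso_of_mono_of_epi _

/-- `H^q(τ_{[q,q+1)} X) ≅ H^q(X)`. -/
noncomputable def truncHomologyIso (X : DerivedCategory B) (q : ℤ) :
    (homologyFunctor B q).obj (trunc X q ((q + 1 : ℤ) : EInt)) ≅ (homologyFunctor B q).obj X :=
  haveI := isIso_homology_truncLTι X (q + 1) q (by lia)
  haveI := isIso_homology_truncGEπ ((t.truncLT (q + 1)).obj X) q q le_rfl
  (asIso ((homologyFunctor B q).map ((t.truncGEπ q).app ((t.truncLT (q + 1)).obj X)))).symm ≪≫
    asIso ((homologyFunctor B q).map ((t.truncLTι (q + 1)).app X))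

lemma exists_trunc_iso (X : DerivedCategory B) (q : ℤ) :
    Nonempty (trunc X q ((q + 1 : ℤ) : EInt) ≅
      (DerivedCategory.singleFunctor B q).obj ((homologyFunctor B q).obj X)) := by
  haveI : (trunc X q ((q + 1 : ℤ) : EInt)).IsGE q :=
    t.isGE_eTruncGE_obj_obj q q le_rfl _
  haveI : t.IsLE ((t.eTruncLT.obj ((q + 1 : ℤ) : EInt)).obj X) q :=
    t.isLE_eTruncLT_obj_obj q _ le_rfl X
  haveI : (trunc X q ((q + 1 : ℤ) : EInt)).IsLE q := by
    dsimp only [trunc]; infer_instance
  obtain ⟨M, ⟨e⟩⟩ := exists_iso_singleFunctor_obj_of_isGE_of_isLE (trunc X q ((q + 1 : ℤ) : EInt)) q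
  have e' : M ≅ (homologyFunctor B q).obj X :=
    ((singleFunctorCompHomologyFunctorIso B q).app M).symm ≪≫
      (homologyFunctor B q).mapIso e.symm ≪≫ truncHomologyIso X q
  exact ⟨e ≪≫ (DerivedCategory.singleFunctor B q).mapIso e'⟩

end Homology

section ExtIso

universe w'

/-- postcomposition with an isomorphism, as an additive equivalence. -/
def postcompAddEquiv {T : Type*} [Category T] [Preadditive T] {S Y Y' : T} (e : Y ≅ Y') :
    (S ⟶ Y) ≃+ (S ⟶ Y') where
  toFun f := f ≫ e.hom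
  invFun g := g ≫ e.inv
  left_inv f := by simp
  right_inv g := by simp
  map_add' f g := Preadditive.add_comp _ _ _ f g e.hom

variable [HasExt.{w'} B]

/-- `Hom(P[0], (M[-q])[p+q]) ≃+ Ext^p(P, M)`. -/
noncomputable def homSingleEquivExt (P M : B) (q : ℤ) (p' : ℕ) (n : ℤ) (hn : (p' : ℤ) + q = n) :
    (SP P ⟶ ((DerivedCategory.singleFunctor B q).obj M)⟦n⟧) ≃+ Abelian.Ext.{w'} P M p' :=
  (postcompAddEquiv (((singleFunctors B).shiftIso n (-(p' : ℤ)) q (by lia)).app M ≪≫
    (((singleFunctors B).shiftIso (p' : ℤ) (-(p' : ℤ)) 0 (by lia)).app M).symm)).trans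
    Abelian.Ext.homAddEquiv.symm

/-- the `E₂`-term of `bigSpec`. -/
lemma nonempty_bigSpec_E₂_equiv (P : B) (X : DerivedCategory B) (q : ℤ) (p' : ℕ) (n : ℤ)
    (hn : (p' : ℤ) + q = n) :
    Nonempty ((SP P ⟶ (trunc X q ((q + 1 : ℤ) : EInt))⟦n⟧) ≃+
      Abelian.Ext.{w'} P ((homologyFunctor B q).obj X) p') := by
  obtain ⟨e⟩ := exists_trunc_iso X q
  exact ⟨(postcompAddEquiv ((shiftFunctor (DerivedCategory B) n).mapIso e)).trans
    (homSingleEquivExt P _ q p' n hn)⟩

end ExtIso

end Groth.Agent.LD.GSS
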