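import Mathlib
import Groth.Agent.Lib.Lead.GSS.DSpec

/-! # `Hom_D(P[0], L[n])` for K-injective `L` as the cohomology of the naive Hom complex -/

universe v u
open CategoryTheory Limits DerivedCategory Opposite CochainComplex HomComplex

namespace Groth.Agent.LD.GSS

variable {B : Type u} [Category.{v} B] [Abelian B]

/-- `Hom(P, -)` as a functor to abelian groups. -/
noncomputable abbrev homF (P : B) : B ⥤ AddCommGrpCat.{v} := preadditiveCoyoneda.obj (op P)

/-- the naive Hom complex `Hom(P, L^•)`. -/
noncomputable abbrev homCx (P : B) (L : CochainComplex B ℤ) : CochainComplex AddCommGrpCat.{v} ℤ :=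
  ((homF P).mapHomologicalComplex (ComplexShape.up ℤ)).obj L

/-- `P` as a complex in degree `0`. -/
noncomputable abbrev S₀ (P : B) : CochainComplex B ℤ := (CochainComplex.singleFunctor B 0).obj P

/-- The total Hom complex out of a single complex is the naive Hom complex. -/
noncomputable def homComplexIso (P : B) (L : CochainComplex B ℤ) :
    HomComplex (S₀ P) L ≅ homCx P L :=
  HomologicalComplex.Hom.isoOfComponents
    (fun n => (Cochain.fromSingleEquiv (X := P) (K := L) (zero_add n)).toAddCommGrpIso)
    (by
      rintro i j (rfl : i + 1 = j)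
      ext α
      obtain ⟨f, rfl⟩ := Cochain.fromSingleMk_surjective α i (zero_add i)
      change Cochain.fromSingleEquiv (zero_add i) (Cochain.fromSingleMk f _) ≫ L.d i (i + 1) =
        Cochain.fromSingleEquiv (zero_add (i + 1)) (δ i (i + 1) (Cochain.fromSingleMk f _))
      rw [Cochain.δ_fromSingleMk f (zero_add i) (i + 1) (i + 1) (zero_add _),
        Cochain.fromSingleEquiv_fromSingleMk, Cochain.fromSingleEquiv_fromSingleMk])

/-- conjugation by isomorphisms, as an additive equivalence. -/
def homCongrAddEquiv {T : Type*} [Category T] [Preadditive T] {X X' Y Y' : T}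
    (e₁ : X ≅ X') (e₂ : Y ≅ Y') : (X ⟶ Y) ≃+ (X' ⟶ Y') where
  toFun f := e₁.inv ≫ f ≫ e₂.hom
  invFun g := e₁.hom ≫ g ≫ e₂.inv
  left_inv f := by simp
  right_inv g := by simp
  map_add' f g := by simp

attribute [local instance] HasDerivedCategory.standard

/-- `Qh.map` as an additive equivalence for a K-injective target. -/
noncomputable def qhAddEquiv (K' : HomotopyCategory B (ComplexShape.up ℤ))
    (L : CochainComplex B ℤ) [L.IsKInjective] :
    (K' ⟶ (HomotopyCategory.quotient _ _).obj L) ≃+
      (Qh.obj K' ⟶ Qh.obj ((HomotopyCategory.quotient _ _).obj L)) :=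
  AddEquiv.ofBijective (Qh.mapAddHom (X := K') (Y := (HomotopyCategory.quotient _ _).obj L))
    (CochainComplex.IsKInjective.Qh_map_bijective K' L)

/-- **K-injective case**: `Hom_D(P[0], L[n]) ≃+ H^n(Hom(P, L))`. -/
noncomputable def homDEquiv (P : B) (L : CochainComplex B ℤ) [L.IsKInjective] (n : ℤ) :
    (SP P ⟶ (Q.obj L)⟦n⟧) ≃+ (homCx P L).homology n :=
  (homCongrAddEquiv
      ((singleFunctorIsoCompQ B 0).app P ≪≫ ((quotientCompQhIso B).app (S₀ P)).symm)
      (((Q.commShiftIso n).app L).symm ≪≫ ((quotientCompQhIso B).app (L⟦n⟧)).symm)).trans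
    ((qhAddEquiv _ (L⟦n⟧)).symm.trans
      ((CohomologyClass.homAddEquiv (K := S₀ P) (L := L) (n := n)).symm.trans
        ((homologyAddEquiv (S₀ P) L n).symm.trans
          ((HomologicalComplex.homologyFunctor _ _ n).mapIso
            (homComplexIso P L)).addCommGroupIsoToAddEquiv)))

end Groth.Agent.LD.GSS
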