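import Mathlib
import Groth.Agent.Lib.Lead.GSS.HomCx
import Groth.Agent.Lib.Helper2.RDer3

/-! # `Hom_D(P[0], K[n])` for a bounded below complex of `P`-acyclic objects -/

universe w v u
open CategoryTheory Limits DerivedCategory Opposite CochainComplex Abelian
open scoped ZeroObject

namespace Groth.Agent.LD.GSS

variable {B : Type u} [Category.{v} B] [Abelian B] [HasExt.{w} B]

/-- objects `M` with `Ext^k(P, M) = 0` for `k > 0`. -/
def PAcyc (P : B) : ObjectProperty B := fun M => ∀ k : ℕ, Subsingleton (Ext.{w} P M (k + 1))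

lemma pAcyc_of_injective (P M : B) [Injective M] : PAcyc.{w} P M :=
  fun k => Ext.subsingleton_of_injective P M k

/-- the key property of `P`-acyclic objects with respect to `Hom(P, -)`. -/
lemma pAcyc_h2 (P : B) (S : ShortComplex B) (hS : S.ShortExact) (h₁ : PAcyc.{w} P S.X₁)
    (h₂ : PAcyc.{w} P S.X₂) : PAcyc.{w} P S.X₃ ∧ (S.map (homF P)).ShortExact := by
  constructor
  · intro k
    refine ⟨fun x y => ?_⟩
    have hz : ∀ z : Ext.{w} P S.X₃ (k + 1), z = 0 := by
      intro z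
      haveI := h₁ (k + 1)
      haveI := h₂ k
      obtain ⟨x₂, hx₂⟩ := Ext.covariant_sequence_exact₃ P hS z (rfl : k + 1 + 1 = k + 2)
        (Subsingleton.elim _ _)
      rw [← hx₂, Subsingleton.elim x₂ 0, Ext.zero_comp]
    rw [hz x, hz y]
  · haveI := hS.mono_f
    haveI := hS.epi_g
    have hmono : Mono ((homF P).map S.f) := by
      rw [AddCommGrpCat.mono_iff_injective]
      intro a b hab
      exact (cancel_mono S.f).1 hab
    have hepi : Epi ((homF P).map S.g) := by
      rw [AddCommGrpCat.epi_iff_surjective]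
      intro (x₃ : P ⟶ S.X₃)
      haveI := h₁ 0
      obtain ⟨x₂, hx₂⟩ := Ext.covariant_sequence_exact₃ P hS (Ext.mk₀ x₃) (rfl : 0 + 1 = 1)
        (Subsingleton.elim _ _)
      obtain ⟨f₂, rfl⟩ := (Ext.mk₀_bijective P S.X₂).2 x₂
      refine ⟨f₂, ?_⟩
      rw [Ext.mk₀_comp_mk₀] at hx₂
      exact (Ext.mk₀_bijective P S.X₃).1 hx₂
    refine ShortComplex.ShortExact.mk' ?_ hmono hepi
    rw [ShortComplex.ab_exact_iff]
    intro (x₂ : P ⟶ S.X₂) hx₂
    have hx₂' : x₂ ≫ S.g = 0 := hx₂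
    exact ⟨hS.exact.lift x₂ hx₂', hS.exact.lift_f x₂ hx₂'⟩

lemma pAcyc_zero (P : B) : PAcyc.{w} P (0 : B) := fun k =>
  ⟨fun x y => by
    have h : ∀ z : Ext.{w} P (0 : B) (k + 1), z = 0 := fun z => by
      have : z = z.comp (Ext.mk₀ (𝟙 (0 : B))) (add_zero _) := (Ext.comp_mk₀_id z).symm
      rw [this, (isZero_zero B).eq_of_src (𝟙 (0 : B)) 0, Ext.mk₀_zero, Ext.comp_zero]
    rw [h x, h y]⟩

lemma pAcyc_of_iso (P : B) {M M' : B} (e : M ≅ M') (h : PAcyc.{w} P M) : PAcyc.{w} P M' :=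
  Groth.Agent.H2.RDer.I_of_iso (homF P) (PAcyc.{w} P) (pAcyc_h2 P) (pAcyc_zero P) e h

lemma pAcyc_biprod (P : B) {M N : B} (hM : PAcyc.{w} P M) (hN : PAcyc.{w} P N) :
    PAcyc.{w} P (M ⊞ N) := by
  intro k
  have hS : (ShortComplex.mk (biprod.inl : M ⟶ M ⊞ N) biprod.snd (by simp)).ShortExact :=
    (ShortComplex.Splitting.ofHasBinaryBiproduct M N).shortExact
  refine ⟨fun x y => ?_⟩
  have hz : ∀ z : Ext.{w} P (M ⊞ N) (k + 1), z = 0 := by
    intro z
    haveI := hM k
    haveI := hN k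
    obtain ⟨x₁, hx₁⟩ := Ext.covariant_sequence_exact₂ P hS z (Subsingleton.elim _ _)
    rw [← hx₁, Subsingleton.elim x₁ 0, Ext.zero_comp]
  rw [hz x, hz y]

/-- `Hom(P, -)` preserves quasi-isomorphisms between bounded below complexes of `P`-acyclics. -/
theorem quasiIso_homF_map (P : B) {K J : CochainComplex B ℤ} (s : K ⟶ J) [QuasiIso s] (a : ℤ)
    [K.IsStrictlyGE a] [J.IsStrictlyGE a] (hK : ∀ n, PAcyc.{w} P (K.X n))
    (hJ : ∀ n, PAcyc.{w} P (J.X n)) :
    QuasiIso (((homF P).mapHomologicalComplex (ComplexShape.up ℤ)).map s) := by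
  rw [Groth.Agent.H2.RDer.quasiIso_iff_mappingCone_exactAt]
  intro n
  have hC := (Groth.Agent.H2.RDer.quasiIso_iff_mappingCone_exactAt s).1 inferInstance
  haveI : (mappingCone s).IsStrictlyGE (a - 1) :=
    CochainComplex.isStrictlyGE_mappingCone s a a (a - 1) (by lia) (by lia)
  have hCI : ∀ n, PAcyc.{w} P ((mappingCone s).X n) := fun n =>
    pAcyc_of_iso P (HomologicalComplex.homotopyCofiber.XIsoBiprod s n (n + 1) (by simp)).symm
      (pAcyc_biprod P (hK (n + 1)) (hJ n))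
  have := Groth.Agent.H2.RDer.exactAt_map_of_acyclic (homF P) (PAcyc.{w} P) (pAcyc_h2 P)
    (mappingCone s) (a - 1) hC hCI (pAcyc_zero P) n
  exact this.of_iso (CochainComplex.mappingCone.mapHomologicalComplexIso s (homF P))

attribute [local instance] HasDerivedCategory.standard

/-- **`P`-acyclic case**: `Hom_D(P[0], K[n]) ≃+ H^n(Hom(P, K))`. -/
theorem nonempty_homDEquiv_of_pAcyc [EnoughInjectives B] (P : B) (K : CochainComplex B ℤ)
    [K.IsStrictlyGE 0] (hK : ∀ n, PAcyc.{w} P (K.X n)) (n : ℤ) :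
    Nonempty ((SP P ⟶ (Q.obj K)⟦n⟧) ≃+ (homCx P K).homology n) := by
  obtain ⟨L, hL, i, hi⟩ :=
    CochainComplex.Plus.exists_quasiIso_injective (C := B) ⟨K, 0, inferInstance⟩ 0
  let J : CochainComplex B ℤ := ((InjectiveObject.ι B).mapHomologicalComplex (.up ℤ)).obj L.obj
  haveI : J.IsKInjective := inferInstance
  haveI : J.IsStrictlyGE 0 := by dsimp only [J]; infer_instance
  have hq : QuasiIso i.hom := hi
  have hJ : ∀ n, PAcyc.{w} P (J.X n) := fun n => by
    haveI : Injective (J.X n) :=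
      inferInstanceAs (Injective ((InjectiveObject.ι B).obj (L.obj.X n)))
    exact pAcyc_of_injective _ _
  let i' : K ⟶ J := i.hom
  haveI : QuasiIso i' := hq
  haveI : QuasiIso (((homF P).mapHomologicalComplex (ComplexShape.up ℤ)).map i') :=
    quasiIso_homF_map P i' 0 hK hJ
  haveI : IsIso (Q.map i') := by rw [isIso_Q_map_iff_quasiIso]; infer_instance
  exact ⟨(postcompAddEquiv ((CategoryTheory.shiftFunctor (DerivedCategory B) n).mapIso
    (asIso (Q.map i')))).trans ((homDEquiv P J n).trans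
      (asIso (HomologicalComplex.homologyMap
        (((homF P).mapHomologicalComplex (ComplexShape.up ℤ)).map i')
          n)).symm.addCommGroupIsoToAddEquiv)⟩

end Groth.Agent.LD.GSS
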