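import Mathlib

/-! # Additive functors commute with the extension of homological complexes -/

open CategoryTheory Limits

namespace Groth.Agent.LD.GSS

variable {ι ι' : Type*} {c : ComplexShape ι} {c' : ComplexShape ι'}
  {C D : Type*} [Category C] [Category D] [HasZeroObject C] [HasZeroObject D]
  [Preadditive C] [Preadditive D] (G : C ⥤ D) [G.Additive]
  (K : HomologicalComplex C c) (e : c.Embedding c')

/-- the comparison on the auxiliary objects. -/
noncomputable def extXIso (x : Option ι) :
    G.obj (HomologicalComplex.extend.X K x) ≅
      HomologicalComplex.extend.X ((G.mapHomologicalComplex c).obj K) x :=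
  match x with
  | some _ => Iso.refl _
  | none => IsZero.iso (G.map_isZero (HomologicalComplex.extend.isZero_X K rfl))
      (HomologicalComplex.extend.isZero_X _ rfl)

lemma extXIso_comm (x y : Option ι) :
    (extXIso G K x).hom ≫ HomologicalComplex.extend.d ((G.mapHomologicalComplex c).obj K) x y =
      G.map (HomologicalComplex.extend.d K x y) ≫ (extXIso G K y).hom :=
  match x, y with
  | none, _ => by
      simp only [HomologicalComplex.extend.d_none_eq_zero _ none _ rfl, comp_zero, G.map_zero,
        zero_comp]
  | some i, some j => by
      simp only [extXIso, HomologicalComplex.extend.d, Iso.refl_hom]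
      exact (Category.id_comp _).trans (Category.comp_id _).symm
  | some _, none => by
      simp only [HomologicalComplex.extend.d_none_eq_zero' _ _ none rfl, comp_zero, G.map_zero,
        zero_comp]

/-- `G(K.extend e) ≅ (G K).extend e`. -/
noncomputable def mapExtendIso :
    (G.mapHomologicalComplex c').obj (K.extend e) ≅
      ((G.mapHomologicalComplex c).obj K).extend e :=
  HomologicalComplex.Hom.isoOfComponents (fun i' => extXIso G K (e.r i'))
    (fun i' j' _ => extXIso_comm G K (e.r i') (e.r j'))

end Groth.Agent.LD.GSS
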