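import Mathlib
import Groth.Agent.Lib.Lead.GSS.DSpec

/-! # Smallness of `Hom_D(P[0], Y)` for bounded below `Y` when there are enough injectives -/

universe v u
open CategoryTheory Limits DerivedCategory

namespace Groth.Agent.LD.GSS

variable {B : Type u} [Category.{v} B] [Abelian B] [EnoughInjectives B]

attribute [local instance] HasDerivedCategory.standard

lemma small_hom_of_isGE (S Y : DerivedCategory B) (m : ℤ) [Y.IsGE m] : Small.{v} (S ⟶ Y) := by
  obtain ⟨K, hK, ⟨e⟩⟩ := exists_iso_Q_obj_of_isGE Y m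
  obtain ⟨L, _, i, hi⟩ := CochainComplex.Plus.exists_quasiIso_injective (C := B) ⟨K, m, hK⟩ m
  let J : CochainComplex B ℤ := ((InjectiveObject.ι B).mapHomologicalComplex (.up ℤ)).obj L.obj
  haveI : J.IsKInjective := inferInstance
  have hq : QuasiIso i.hom := hi
  haveI : IsIso (Q.map i.hom) := by rw [isIso_Q_map_iff_quasiIso]; exact hq
  let eY : Y ≅ Qh.obj ((HomotopyCategory.quotient _ _).obj J) :=
    e ≪≫ asIso (Q.map i.hom) ≪≫ ((quotientCompQhIso B).app J).symm
  obtain ⟨S', ⟨eS⟩⟩ : ∃ S' : HomotopyCategory B (ComplexShape.up ℤ), Nonempty (S ≅ Qh.obj S') :=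
    ⟨Qh.objPreimage S, ⟨(Qh.objObjPreimageIso S).symm⟩⟩
  have hb := CochainComplex.IsKInjective.Qh_map_bijective S' J
  haveI : Small.{v} (Qh.obj S' ⟶ Qh.obj ((HomotopyCategory.quotient _ _).obj J)) :=
    small_of_surjective hb.surjective
  exact small_map (Iso.homCongr eS eY)

end Groth.Agent.LD.GSS
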