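import Mathlib
import Groth.Agent.Lib.Lead.GSS.Small

/-! # The hyper-Ext spectral sequence `Ext^p(P, H^q(X)) ⇒ Hom_D(P, X[p+q])` -/

universe v u
open CategoryTheory Limits DerivedCategory ComposableArrows

namespace Groth.Agent.LD.GSS

variable {B : Type u} [Category.{v} B] [Abelian B] [EnoughInjectives B]

attribute [local instance] HasDerivedCategory.standard

variable (P : B) (X : DerivedCategory B) [X.IsGE 0]

instance small_bigSpec (n : ℤ) (D : ComposableArrows EInt 1) :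
    Small.{v} (((bigSpec P X).H n).obj D) := by
  change Small.{v} (SP P ⟶ ((TStructure.t.ω₁.obj D).obj X)⟦n⟧)
  haveI : TStructure.t.IsGE ((TStructure.t.ω₁.obj D).obj X) 0 := by
    show TStructure.t.IsGE ((TStructure.t.eTruncGE.obj (D.obj 0)).obj
      ((TStructure.t.eTruncLT.obj (D.obj 1)).obj X)) 0
    infer_instance
  haveI : TStructure.t.IsGE (((TStructure.t.ω₁.obj D).obj X)⟦n⟧) (-n) :=
    TStructure.t.isGE_shift _ 0 n (-n) (by lia)
  exact small_hom_of_isGE _ _ (-n)

/-- the spectral object in `AddCommGrpCat.{v}`. -/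
noncomputable def smallSpec : Abelian.SpectralObject AddCommGrpCat.{v} EInt :=
  shrinkSpec.{max u v, v} (bigSpec P X)

instance : (smallSpec P X).IsFirstQuadrant where
  isZero₁ i j hij hj n :=
    isZero_shrinkSpec_H _ n _ ((bigSpec P X).isZero₁_of_isFirstQuadrant i j hij hj n)
  isZero₂ i j hij n hi :=
    isZero_shrinkSpec_H _ n _ ((bigSpec P X).isZero₂_of_isFirstQuadrant i j hij n hi)

/-- the values of `smallSpec`. -/
noncomputable def smallSpecEquiv (n : ℤ) {i j : EInt} (hij : i ≤ j) :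
    ((smallSpec P X).H n).obj (mk₁ (homOfLE hij)) ≃+ (SP P ⟶ (trunc X i j)⟦n⟧) :=
  shrinkEquiv.{max u v, v} (bigSpec P X) n (mk₁ (homOfLE hij))

/-- the abutment object. -/
noncomputable def abutEquiv (n : ℤ) :
    ((abut (smallSpec P X) n : AddCommGrpCat.{v}) : Type v) ≃+ (SP P ⟶ X⟦n⟧) :=
  smallSpecEquiv P X n bot_le

section ExtCongr

open Abelian

variable {A : Type*} [Category A] [Abelian A] [HasExt.{v} A]

/-- `Ext` is invariant under isomorphisms in the second variable. -/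
noncomputable def extCongrRight {P M M' : A} (e : M ≅ M') (n : ℕ) :
    Ext.{v} P M n ≃+ Ext.{v} P M' n where
  toFun x := x.comp (Ext.mk₀ e.hom) (add_zero n)
  invFun y := y.comp (Ext.mk₀ e.inv) (add_zero n)
  left_inv x := by
    simp only [Ext.comp_assoc_of_third_deg_zero, Ext.mk₀_comp_mk₀, e.hom_inv_id, Ext.comp_mk₀_id]
  right_inv y := by
    simp only [Ext.comp_assoc_of_third_deg_zero, Ext.mk₀_comp_mk₀, e.inv_hom_id, Ext.comp_mk₀_id]
  map_add' x y := Ext.add_comp _ _ _ _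

/-- `Ext` is invariant under isomorphisms in the first variable. -/
noncomputable def extCongrLeft {P P' M : A} (e : P ≅ P') (n : ℕ) :
    Ext.{v} P M n ≃+ Ext.{v} P' M n where
  toFun x := (Ext.mk₀ e.inv).comp x (zero_add n)
  invFun y := (Ext.mk₀ e.hom).comp y (zero_add n)
  left_inv x := by
    simp only [Ext.mk₀_comp_mk₀_assoc, e.hom_inv_id, Ext.mk₀_id_comp]
  right_inv y := by
    simp only [Ext.mk₀_comp_mk₀_assoc, e.inv_hom_id, Ext.mk₀_id_comp]
  map_add' x y := Ext.comp_add _ _ _ _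

end ExtCongr

variable [HasExt.{v} B]

/-- **Hyper-Ext spectral sequence**: for `X ∈ D^{≥0}(B)` there is a bounded `E₂` spectral sequence
with `E₂^{p,q} ≅ Ext^p(P, H^q(X))` abutting (finite filtrations) to `Hom_D(P, X[n])`. -/
theorem exists_spectralSequence (H' : ℤ → AddCommGrpCat.{v})
    (eH : ∀ n, (SP P ⟶ X⟦n⟧) ≃+ H' n) (M : ℤ → B)
    (eM : ∀ q, 0 ≤ q → (M q ≅ (homologyFunctor B q).obj X))
    (Z : AddCommGrpCat.{v}) (hZ : IsZero Z) :
    ∃ (E : E₂CohomologicalSpectralSequence AddCommGrpCat.{v}) (a : SpSeq.Abutment E H'),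
      (∀ n, a.IsFinite n) ∧ SpSeq.IsBounded E ∧
      ∀ p q : ℤ, Nonempty ((E.page 2 le_rfl).X (p, q) ≅
        (if 0 ≤ p ∧ 0 ≤ q then AddCommGrpCat.of (Abelian.Ext.{v} P (M q) p.toNat) else Z)) := by
  obtain ⟨a, ha, hb, hE⟩ := exists_abutment (smallSpec P X) (H' := H')
    (fun n => ((abutEquiv P X n).trans (eH n)).toAddCommGrpIso)
  refine ⟨_, a, ha, hb, fun p q => ?_⟩
  split_ifs with hpq
  · obtain ⟨e1⟩ := hE p q
    obtain ⟨e2⟩ := nonempty_bigSpec_E₂_equiv.{max u v, v, u, v} P X q p.toNat (p + q)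
      (by rw [Int.toNat_of_nonneg hpq.1])
    exact ⟨e1 ≪≫ ((smallSpecEquiv P X (p + q) (coe_le_succ q)).trans
      (e2.trans (extCongrRight (eM q hpq.2).symm _))).toAddCommGrpIso⟩
  · refine ⟨IsZero.iso ?_ hZ⟩
    rw [not_and_or, not_le, not_le] at hpq
    rcases hpq with h | h
    · exact isZero_page_of_fst_neg _ 2 le_rfl (p, q) h
    · exact isZero_page_of_snd_neg _ 2 le_rfl (p, q) h

end Groth.Agent.LD.GSS
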