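import Mathlib
import Groth.Agent.Lib.Lead.GSS.Main
import Groth.Agent.Lib.Lead.GSS.Acyc
import Groth.Agent.Lib.Lead.GSS.ExtendMap

/-! # The Grothendieck spectral sequence `Ext^p(P, R^q T F) ⇒ Ext^{p+q}(P', F)`
when `Hom(P, T -) ≅ Hom(P', -)` and `T` sends injectives to `P`-acyclics. -/

universe v u u'
open CategoryTheory Limits DerivedCategory Opposite CochainComplex Abelian

namespace Groth.Agent.LD.GSS

attribute [local instance] HasDerivedCategory.standard

section

variable {A' : Type u'} [Category.{v} A'] [Abelian A'] [HasInjectiveResolutions A']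
  {B : Type u} [Category.{v} B] [Abelian B]
  (T : A' ⥤ B) [T.Additive]

lemma isStrictlyGE_map (K : CochainComplex A' ℤ) (n : ℤ) [K.IsStrictlyGE n] :
    CochainComplex.IsStrictlyGE ((T.mapHomologicalComplex (ComplexShape.up ℤ)).obj K) n := by
  rw [CochainComplex.isStrictlyGE_iff]
  intro i hi
  exact T.map_isZero (K.isZero_of_isStrictlyGE n i hi)

/-- `R^k T F` is the `k`-th cohomology of `T` applied to the `ℤ`-indexed injective resolution. -/
noncomputable def rightDerivedIsoHomology {F : A'} (I : InjectiveResolution F) (k : ℕ) :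
    (T.rightDerived k).obj F ≅
      ((T.mapHomologicalComplex (ComplexShape.up ℤ)).obj I.cochainComplex).homology (k : ℤ) :=
  I.isoRightDerivedObj T k ≪≫
    (((T.mapHomologicalComplex (ComplexShape.up ℕ)).obj I.cocomplex).extendHomologyIso
      ComplexShape.embeddingUpNat (j := k) (j' := (k : ℤ)) rfl).symm ≪≫
    (HomologicalComplex.homologyFunctor B (ComplexShape.up ℤ) (k : ℤ)).mapIso
      (mapExtendIso T I.cocomplex ComplexShape.embeddingUpNat).symm

/-- `H^k(Hom(P', I^•)) ≃+ Ext^k(P', F)`. -/
noncomputable def homCxHomologyEquivExt [HasExt.{v} A'] (P' : A') {F : A'}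
    (I : InjectiveResolution F) (k : ℕ) :
    (homCx P' I.cochainComplex).homology (k : ℤ) ≃+ Ext.{v} P' F k :=
  (homDEquiv P' I.cochainComplex (k : ℤ)).symm.trans
    ((postcompAddEquiv ((CategoryTheory.shiftFunctor (DerivedCategory A') (k : ℤ)).mapIso
      ((asIso (Q.map I.ι')).symm ≪≫ ((singleFunctorIsoCompQ A' 0).app F).symm))).trans
      Ext.homAddEquiv.symm)

/-- the iso of naive Hom complexes induced by `Hom(P, T -) ≅ Hom(P', -)`. -/
noncomputable def homCxIso (P : B) (P' : A') (φ : T ⋙ homF P ≅ homF P')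
    (K : CochainComplex A' ℤ) :
    homCx P ((T.mapHomologicalComplex (ComplexShape.up ℤ)).obj K) ≅ homCx P' K :=
  HomologicalComplex.Hom.isoOfComponents (fun n => φ.app (K.X n))
    (fun i j _ => (φ.hom.naturality (K.d i j)).symm)

end

section Main

variable {A' : Type u'} [Category.{v} A'] [Abelian A'] [HasInjectiveResolutions A']
  [HasExt.{v} A']
  {B : Type u} [Category.{v} B] [Abelian B] [EnoughInjectives B] [HasExt.{v} B]
  (T : A' ⥤ B) [T.Additive] (P : B) (P' : A') (φ : T ⋙ homF P ≅ homF P')
  (hT : ∀ Q : A', Injective Q → PAcyc.{v} P (T.obj Q)) (F : A')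

include φ hT in
/-- **Grothendieck spectral sequence (Hom type).** -/
theorem exists_gss (Z Z' : AddCommGrpCat.{v}) (hZ : IsZero Z) (hZ' : IsZero Z') :
    ∃ (E : E₂CohomologicalSpectralSequence AddCommGrpCat.{v})
      (a : SpSeq.Abutment E (fun n : ℤ =>
        if 0 ≤ n then AddCommGrpCat.of (Ext.{v} P' F n.toNat) else Z')),
      (∀ n, a.IsFinite n) ∧ SpSeq.IsBounded E ∧
      ∀ p q : ℤ, Nonempty ((E.page 2 le_rfl).X (p, q) ≅
        (if 0 ≤ p ∧ 0 ≤ q then
          AddCommGrpCat.of (Ext.{v} P ((T.rightDerived q.toNat).obj F) p.toNat) else Z)) := by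
  let I := injectiveResolution F
  let K : CochainComplex B ℤ := (T.mapHomologicalComplex (ComplexShape.up ℤ)).obj I.cochainComplex
  haveI : K.IsStrictlyGE 0 := isStrictlyGE_map T I.cochainComplex 0
  have hK : ∀ n, PAcyc.{v} P (K.X n) := fun n => hT _ (inferInstance : Injective (I.cochainComplex.X n))
  haveI : (Q.obj K).IsGE 0 := inferInstance
  refine exists_spectralSequence P (Q.obj K) _ (fun n => Classical.choice ?_)
    (fun q => (T.rightDerived q.toNat).obj F) (fun q hq => ?_) Z hZ
  · -- the abutment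
    obtain ⟨e1⟩ := nonempty_homDEquiv_of_pAcyc.{v} P K hK n
    by_cases hn : 0 ≤ n
    · rw [if_pos hn]
      obtain ⟨k, rfl⟩ := Int.eq_ofNat_of_zero_le hn
      rw [Int.toNat_natCast]
      exact ⟨e1.trans (((HomologicalComplex.homologyFunctor _ _ (k : ℤ)).mapIso
        (homCxIso T P P' φ I.cochainComplex)).addCommGroupIsoToAddEquiv.trans
        (homCxHomologyEquivExt P' I k))⟩
    · rw [if_neg hn]
      haveI : Subsingleton (SP P ⟶ (Q.obj K)⟦n⟧) := ⟨fun f g => by
        haveI : TStructure.t.IsGE ((Q.obj K)⟦n⟧) (-n) :=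
          TStructure.t.isGE_shift (Q.obj K) 0 n (-n) (by lia)
        rw [TStructure.t.zero_of_isLE_of_isGE f 0 (-n) (by lia) inferInstance inferInstance,
          TStructure.t.zero_of_isLE_of_isGE g 0 (-n) (by lia) inferInstance inferInstance]⟩
      haveI : Subsingleton Z' := AddCommGrpCat.subsingleton_of_isZero hZ'
      exact ⟨{ toFun := fun _ => 0, invFun := fun _ => 0,
                left_inv := fun _ => Subsingleton.elim _ _,
                right_inv := fun _ => Subsingleton.elim _ _,
                map_add' := fun _ _ => Subsingleton.elim _ _ }⟩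
  · -- the `E₂` terms
    have hq' : ((q.toNat : ℕ) : ℤ) = q := Int.toNat_of_nonneg hq
    exact rightDerivedIsoHomology T I q.toNat ≪≫ eqToIso (by rw [hq']; rfl) ≪≫
      ((homologyFunctorFactors B q).app K).symm

end Main

end Groth.Agent.LD.GSS
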