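import Mathlib
import Groth.Agent.Lib.Lead.GSS.Groth

/-! # Degenerate case of the Grothendieck spectral sequence: `T` exact.
`Ext^k(P', F) ≃+ Ext^k(P, T F)` when `Hom(P, T -) ≅ Hom(P', -)`, `T` is exact and sends injectives
to `P`-acyclics. -/

universe v u u'
open CategoryTheory Limits DerivedCategory Opposite CochainComplex Abelian

namespace Groth.Agent.LD.GSS

attribute [local instance] HasDerivedCategory.standard

variable {A' : Type u'} [Category.{v} A'] [Abelian A'] [HasInjectiveResolutions A']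
  [HasExt.{v} A']
  {B : Type u} [Category.{v} B] [Abelian B] [EnoughInjectives B] [HasExt.{v} B]
  (T : A' ⥤ B) [T.Additive] [T.PreservesHomology] (P : B) (P' : A')
  (φ : T ⋙ homF P ≅ homF P')
  (hT : ∀ Q : A', Injective Q → PAcyc.{v} P (T.obj Q)) (F : A')

include φ hT in
theorem nonempty_ext_equiv_of_exact (k : ℕ) :
    Nonempty (Ext.{v} P' F k ≃+ Ext.{v} P (T.obj F) k) := by
  let I := injectiveResolution F
  let K : CochainComplex B ℤ := (T.mapHomologicalComplex (ComplexShape.up ℤ)).obj I.cochainComplex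
  haveI : K.IsStrictlyGE 0 := isStrictlyGE_map T I.cochainComplex 0
  have hK : ∀ n, PAcyc.{v} P (K.X n) := fun n =>
    hT _ (inferInstance : Injective (I.cochainComplex.X n))
  obtain ⟨e1⟩ := nonempty_homDEquiv_of_pAcyc.{v} P K hK (k : ℤ)
  haveI : QuasiIso ((T.mapHomologicalComplex (ComplexShape.up ℤ)).map I.ι') :=
    inferInstance
  haveI : IsIso (Q.map ((T.mapHomologicalComplex (ComplexShape.up ℤ)).map I.ι')) := by
    rw [isIso_Q_map_iff_quasiIso]; infer_instance
  let eK : Q.obj K ≅ (DerivedCategory.singleFunctor B 0).obj (T.obj F) :=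
    (asIso (Q.map ((T.mapHomologicalComplex (ComplexShape.up ℤ)).map I.ι'))).symm ≪≫
      Q.mapIso ((HomologicalComplex.singleMapHomologicalComplex T (ComplexShape.up ℤ) 0).app F) ≪≫
      ((singleFunctorIsoCompQ B 0).app (T.obj F)).symm
  let e2 : (SP P ⟶ (Q.obj K)⟦(k : ℤ)⟧) ≃+ Ext.{v} P (T.obj F) k :=
    (postcompAddEquiv ((CategoryTheory.shiftFunctor (DerivedCategory B) (k : ℤ)).mapIso eK)).trans
      Ext.homAddEquiv.symm
  exact ⟨(homCxHomologyEquivExt P' I k).symm.trans
    (((HomologicalComplex.homologyFunctor _ _ (k : ℤ)).mapIso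
      (homCxIso T P P' φ I.cochainComplex)).addCommGroupIsoToAddEquiv.symm.trans
      (e1.symm.trans e2))⟩

end Groth.Agent.LD.GSS
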