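import Groth.Agent.Lib.Lead.GSS.HomCx

/-! # `T ⋙ Hom(P, -) ≅ Hom(P', -)` from a natural family of bijections (a partial left adjoint). -/

universe v u u'
open CategoryTheory Limits Opposite

namespace Groth.Agent.LD.GSS

variable {A' : Type u'} [Category.{v} A'] [Abelian A'] {B : Type u} [Category.{v} B]
  [Abelian B] (T : A' ⥤ B) [T.Additive] (P : B) (P' : A')
  (e : ∀ G : A', (P' ⟶ G) ≃ (P ⟶ T.obj G))
  (he : ∀ (G G' : A') (ψ : P' ⟶ G) (g : G ⟶ G'), e G' (ψ ≫ g) = e G ψ ≫ T.map g)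

include he in
lemma homEquiv_eq (G : A') (ψ : P' ⟶ G) : e G ψ = e P' (𝟙 P') ≫ T.map ψ := by
  rw [← he, Category.id_comp]

/-- the additive version of `e`. -/
noncomputable def homAddEquivOfEquiv (G : A') : (P ⟶ T.obj G) ≃+ (P' ⟶ G) :=
  AddEquiv.symm
    { e G with
      map_add' := fun ψ₁ ψ₂ => by
        change e G (ψ₁ + ψ₂) = e G ψ₁ + e G ψ₂
        rw [homEquiv_eq T P P' e he, homEquiv_eq T P P' e he G ψ₁, homEquiv_eq T P P' e he G ψ₂,
          T.map_add, Preadditive.comp_add] }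

lemma homAddEquivOfEquiv_symm_apply (G : A') (ψ : P' ⟶ G) :
    (homAddEquivOfEquiv T P P' e he G).symm ψ = e G ψ := rfl

/-- `T ⋙ Hom(P, -) ≅ Hom(P', -)`. -/
noncomputable def homFIsoOfEquiv : T ⋙ homF P ≅ homF P' :=
  NatIso.ofComponents (fun G => (homAddEquivOfEquiv T P P' e he G).toAddCommGrpIso)
    (fun {G G'} g => by
      refine AddCommGrpCat.hom_ext (AddMonoidHom.ext fun φ => ?_)
      change homAddEquivOfEquiv T P P' e he G' (φ ≫ T.map g) =
        homAddEquivOfEquiv T P P' e he G φ ≫ g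
      apply (homAddEquivOfEquiv T P P' e he G').symm.injective
      rw [AddEquiv.symm_apply_apply, homAddEquivOfEquiv_symm_apply, he,
        ← homAddEquivOfEquiv_symm_apply T P P' e he G, AddEquiv.symm_apply_apply])

end Groth.Agent.LD.GSS
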