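import Groth.Agent.Lib.Lead.GSS.Groth2
import Groth.Agent.Lib.Lead.GSS.Coker

/-! # Grothendieck spectral sequence with both the `E₂`-coefficients and the abutment replaced by
isomorphic objects. -/

universe v u u'
open CategoryTheory Limits DerivedCategory Opposite CochainComplex Abelian

namespace Groth.Agent.LD.GSS

variable {A' : Type u'} [Category.{v} A'] [Abelian A'] [HasInjectiveResolutions A']
  [HasExt.{v} A']
  {B : Type u} [Category.{v} B] [Abelian B] [EnoughInjectives B] [HasExt.{v} B]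
  (T : A' ⥤ B) [T.Additive] (P : B) (P' : A') (φ : T ⋙ homF P ≅ homF P')
  (hT : ∀ Q : A', Injective Q → PAcyc.{v} P (T.obj Q)) (F : A')

include φ hT in
/-- **Grothendieck spectral sequence**, with the `E₂`-coefficients and the abutment given up to
isomorphism. -/
theorem exists_gss'' (M : ℕ → B) (hM : ∀ q, Nonempty ((T.rightDerived q).obj F ≅ M q))
    (H : ℕ → AddCommGrpCat.{v})
    (hH : ∀ n, Nonempty (AddCommGrpCat.of (Ext.{v} P' F n) ≅ H n))
    (Z Z' : AddCommGrpCat.{v}) (hZ : IsZero Z) (hZ' : IsZero Z') :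
    ∃ (E : E₂CohomologicalSpectralSequence AddCommGrpCat.{v})
      (a : SpSeq.Abutment E (fun n : ℤ => if 0 ≤ n then H n.toNat else Z')),
      (∀ n, a.IsFinite n) ∧ SpSeq.IsBounded E ∧
      ∀ p q : ℤ, Nonempty ((E.page 2 le_rfl).X (p, q) ≅
        (if 0 ≤ p ∧ 0 ≤ q then
          AddCommGrpCat.of (Ext.{v} P (M q.toNat) p.toNat) else Z)) := by
  obtain ⟨E, a, h1, h2, h3⟩ := exists_gss' T P P' φ hT F M hM Z Z' hZ hZ'
  have e : ∀ n : ℤ, Nonempty ((if 0 ≤ n then AddCommGrpCat.of (Ext.{v} P' F n.toNat) else Z') ≅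
      (if 0 ≤ n then H n.toNat else Z')) := fun n => by
    by_cases h : 0 ≤ n
    · rw [if_pos h, if_pos h]
      exact hH n.toNat
    · rw [if_neg h, if_neg h]
      exact ⟨Iso.refl _⟩
  exact ⟨E, abutmentOfIso a (fun n => Classical.choice (e n)),
    fun n => abutmentOfIso_isFinite a _ n (h1 n), h2, h3⟩

end Groth.Agent.LD.GSS
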