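import Mathlib

/-! # Two subfunctors of an `AddCommGrpCat`-valued functor with the same sections are isomorphic. -/

universe v u'
open CategoryTheory Limits

namespace Groth.Agent.LD.GSS

variable {A' : Type u'} [Category.{v} A'] {F₁ F₂ S : A' ⥤ AddCommGrpCat.{v}}
  (a : F₁ ⟶ S) (b : F₂ ⟶ S)
  (hb : ∀ G, Function.Injective (b.app G))
  (hab : ∀ G (x : F₁.obj G), ∃ y : F₂.obj G, b.app G y = a.app G x)

/-- the comparison map. -/
noncomputable def compHom (G : A') : F₁.obj G →+ F₂.obj G where
  toFun x := Classical.choose (hab G x)
  map_zero' := hb G (by rw [Classical.choose_spec (hab G 0), map_zero, map_zero])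
  map_add' x y := hb G (by
    refine (Classical.choose_spec (hab G (x + y))).trans ?_
    rw [map_add, map_add, Classical.choose_spec (hab G x), Classical.choose_spec (hab G y)])

lemma b_compHom (G : A') (x : F₁.obj G) : b.app G (compHom a b hb hab G x) = a.app G x :=
  Classical.choose_spec (hab G x)

/-- the comparison natural transformation. -/
noncomputable def compNat : F₁ ⟶ F₂ where
  app G := AddCommGrpCat.ofHom (compHom a b hb hab G)
  naturality G G' g := by
    refine AddCommGrpCat.hom_ext (AddMonoidHom.ext fun x => hb G' ?_)
    change b.app G' (compHom a b hb hab G' (F₁.map g x)) = b.app G' (F₂.map g (compHom a b hb hab G x))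
    rw [b_compHom]
    have h1 : a.app G' (F₁.map g x) = S.map g (a.app G x) := by
      have := congrArg (fun t => t x) (congrArg (fun t => (t.hom : _ → _)) (a.naturality g))
      exact this
    have h2 : b.app G' (F₂.map g (compHom a b hb hab G x)) =
        S.map g (b.app G (compHom a b hb hab G x)) := by
      have := congrArg (fun t => t (compHom a b hb hab G x))
        (congrArg (fun t => (t.hom : _ → _)) (b.naturality g))
      exact this
    rw [h1, h2, b_compHom]

lemma compNat_comp : compNat a b hb hab ≫ b = a := by
  ext G x
  exact b_compHom a b hb hab G x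

/-- Two subfunctors with the same image are isomorphic. -/
noncomputable def isoOfSameRange (ha : ∀ G, Function.Injective (a.app G))
    (hba : ∀ G (y : F₂.obj G), ∃ x : F₁.obj G, a.app G x = b.app G y) : F₁ ≅ F₂ where
  hom := compNat a b hb hab
  inv := compNat b a ha hba
  hom_inv_id := by
    ext G x
    refine ha G ?_
    change a.app G (compHom b a ha hba G (compHom a b hb hab G x)) = a.app G x
    rw [b_compHom, b_compHom]
  inv_hom_id := by
    ext G x
    refine hb G ?_
    change b.app G (compHom a b hb hab G (compHom b a ha hba G x)) = b.app G x
    rw [b_compHom, b_compHom]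

end Groth.Agent.LD.GSS
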