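import Groth.Agent.Lib.Lead.GSS.Groth

/-! # Variants of the Grothendieck spectral sequence with the `E₂`-coefficients and the
objects `P`, `P'` replaced by isomorphic ones. -/

universe v u u'
open CategoryTheory Limits DerivedCategory Opposite CochainComplex Abelian

namespace Groth.Agent.LD.GSS

variable {A' : Type u'} [Category.{v} A'] [Abelian A'] [HasInjectiveResolutions A']
  [HasExt.{v} A']
  {B : Type u} [Category.{v} B] [Abelian B] [EnoughInjectives B] [HasExt.{v} B]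
  (T : A' ⥤ B) [T.Additive] (P : B) (P' : A') (φ : T ⋙ homF P ≅ homF P')
  (hT : ∀ Q : A', Injective Q → PAcyc.{v} P (T.obj Q)) (F : A')

include φ hT in
/-- **Grothendieck spectral sequence**, with the `E₂`-coefficients given up to isomorphism. -/
theorem exists_gss' (M : ℕ → B) (hM : ∀ q, Nonempty ((T.rightDerived q).obj F ≅ M q))
    (Z Z' : AddCommGrpCat.{v}) (hZ : IsZero Z) (hZ' : IsZero Z') :
    ∃ (E : E₂CohomologicalSpectralSequence AddCommGrpCat.{v})
      (a : SpSeq.Abutment E (fun n : ℤ =>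
        if 0 ≤ n then AddCommGrpCat.of (Ext.{v} P' F n.toNat) else Z')),
      (∀ n, a.IsFinite n) ∧ SpSeq.IsBounded E ∧
      ∀ p q : ℤ, Nonempty ((E.page 2 le_rfl).X (p, q) ≅
        (if 0 ≤ p ∧ 0 ≤ q then
          AddCommGrpCat.of (Ext.{v} P (M q.toNat) p.toNat) else Z)) := by
  obtain ⟨E, a, h1, h2, h3⟩ := exists_gss T P P' φ hT F Z Z' hZ hZ'
  refine ⟨E, a, h1, h2, fun p q => ?_⟩
  obtain ⟨e⟩ := h3 p q
  by_cases h : 0 ≤ p ∧ 0 ≤ q
  · rw [if_pos h] at e ⊢
    obtain ⟨e'⟩ := hM q.toNat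
    exact ⟨e ≪≫ (extCongrRight e' p.toNat).toAddCommGrpIso⟩
  · rw [if_neg h] at e ⊢
    exact ⟨e⟩

end Groth.Agent.LD.GSS
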