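import Groth.Agent.Lib.Helper2.GSSGen6
import Groth.Agent.Lib.Lead.SS.Abut

/-! # The degenerate Grothendieck spectral sequence: if `R^{p+1}S (R^q T A) = 0` for all `p, q`,
then `R^q (T ⋙ S) A ≅ S (R^q T A)`. -/

set_option autoImplicit false
universe v u
open CategoryTheory Limits
open scoped ZeroObject

namespace Groth.Agent.LD.GSS

open Groth.Agent.LD

variable {C C' C'' : Type u} [Category.{v} C] [Category.{v} C'] [Category.{v} C'']
  [Abelian C] [Abelian C'] [Abelian C''] [HasInjectiveResolutions C] [HasInjectiveResolutions C']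
  (T : C ⥤ C') [T.Additive] (S : C' ⥤ C'') [S.Additive] [PreservesFiniteLimits S]
  (hT : ∀ Q : C, Injective Q → ∀ q : ℕ, 0 < q → IsZero ((S.rightDerived q).obj (T.obj Q))) (A : C)

include hT in
theorem nonempty_rightDerived_comp_iso_of_isZero
    (h : ∀ p q : ℕ, IsZero ((S.rightDerived (p + 1)).obj ((T.rightDerived q).obj A))) (q : ℕ) :
    Nonempty (((T ⋙ S).rightDerived q).obj A ≅ S.obj ((T.rightDerived q).obj A)) := by
  obtain ⟨E, a, hfin, -, hE2⟩ := Groth.Agent.H2.GSSGen.exists_gss T S hT A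
  have hdeg : ∀ m q' : ℤ, q' ≠ m → IsZero ((E.page 2 le_rfl).X (m - q', q')) := by
    intro m q' hq'
    obtain ⟨e⟩ := hE2 (m - q') q'
    refine IsZero.of_iso ?_ e
    by_cases hc : 0 ≤ m - q' ∧ 0 ≤ q'
    · rw [if_pos hc]
      obtain ⟨p', hp'⟩ : ∃ p' : ℕ, (m - q').toNat = p' + 1 :=
        ⟨(m - q').toNat - 1, by omega⟩
      rw [hp']
      exact h p' q'.toNat
    · rw [if_neg hc]
      exact isZero_zero _
  have hst : SpSeq.StationaryAt E ((q : ℤ) - (q : ℤ), (q : ℤ)) 2 := by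
    refine ⟨le_rfl, fun r' h₀ hr' => ⟨?_, ?_⟩⟩
    · refine IsZero.eq_of_src (SS.isZero_page_of_le E 2 le_rfl _ ?_ r' hr') _ _
      obtain ⟨e⟩ := hE2 (((q : ℤ) - (q : ℤ), (q : ℤ)) - (r', 1 - r')).1
        (((q : ℤ) - (q : ℤ), (q : ℤ)) - (r', 1 - r')).2
      refine IsZero.of_iso ?_ e
      rw [if_neg (by simp; omega)]
      exact isZero_zero _
    · refine IsZero.eq_of_tgt (SS.isZero_page_of_le E 2 le_rfl _ ?_ r' hr') _ _
      have := hdeg ((q : ℤ) + 1) ((q : ℤ) + 1 - r') (by omega)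
      have e : ((q : ℤ) + 1 - ((q : ℤ) + 1 - r'), (q : ℤ) + 1 - r') =
          ((q : ℤ) - (q : ℤ), (q : ℤ)) + (r', 1 - r') := by
        ext <;> simp <;> omega
      rwa [e] at this
  have hexh : a.IsExhaustive (q : ℤ) := by
    obtain ⟨b, hb⟩ := (hfin (q : ℤ)).1
    exact ⟨fun _ _ => le_top, fun c hc => hb ▸ hc ⟨b, rfl⟩⟩
  obtain ⟨e1⟩ := SS.nonempty_iso_of_single E a 2 le_rfl (fun m => m) hdeg (q : ℤ)
    (hfin (q : ℤ)).2 hexh hst
  obtain ⟨e2⟩ := hE2 ((q : ℤ) - (q : ℤ)) (q : ℤ)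
  have e3 := e1 ≪≫ e2
  rw [if_pos (by omega), if_pos (by omega)] at e3
  simp only [Int.toNat_natCast] at e3
  have hz : ((q : ℤ) - (q : ℤ)).toNat = 0 := by simp
  rw [hz] at e3
  exact ⟨e3 ≪≫ (S.rightDerivedZeroIsoSelf).app _⟩

end Groth.Agent.LD.GSS
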