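import Groth.Agent.Lib.Lead.GSS.TopSupp
import Groth.Agent.Lib.Lead.SC.Flasque

/-! # `Hom(ℤ_X, Γ_Z -) ≅ Hom(ℤ_X/ℤ_U, -)` and acyclicity of `Γ_Z` of an injective. -/

universe u
open CategoryTheory Limits Opposite Abelian TopologicalSpace

namespace Groth.Agent.LD.GSS
open Groth.Agent.LD.SC Groth.Agent.LD.LCZ

variable {X : TopCat.{u}} (U : Opens X)

lemma res_top_inf_iff (G : CohTop.Ab X) (x : G.obj.obj (op (⊤ : Opens X))) :
    G.obj.map (homOfLE (inf_le_left : (⊤ : Opens X) ⊓ U ≤ ⊤)).op x = 0 ↔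
      G.obj.map (homOfLE (le_top : U ≤ ⊤)).op x = 0 := by
  have k : U ≤ (⊤ : Opens X) ⊓ U := le_inf le_top le_rfl
  have k' : (⊤ : Opens X) ⊓ U ≤ U := inf_le_right
  constructor
  · intro h
    have : G.obj.map (homOfLE (le_top : U ≤ ⊤)).op x =
        G.obj.map (homOfLE k).op (G.obj.map (homOfLE (inf_le_left : (⊤ : Opens X) ⊓ U ≤ ⊤)).op x) := by
      rw [← ConcreteCategory.comp_apply, ← G.obj.map_comp, ← op_comp]
      rfl
    rw [this, h, map_zero]
  · intro h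
    have : G.obj.map (homOfLE (inf_le_left : (⊤ : Opens X) ⊓ U ≤ ⊤)).op x =
        G.obj.map (homOfLE k').op (G.obj.map (homOfLE (le_top : U ≤ ⊤)).op x) := by
      rw [← ConcreteCategory.comp_apply, ← G.obj.map_comp, ← op_comp]
      rfl
    rw [this, h, map_zero]

/-- evaluation `Hom(ℤ_X, Γ_Z G) → G(X)`. -/
noncomputable def suppEvalNat :
    LocCohZ.sectSuppF U ⋙ homF (ZU (Opens.grothendieckTopology X) (⊤ : Opens X)) ⟶
      secF (⊤ : Opens X) where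
  app G := AddCommGrpCat.ofHom
    (((ssι U G).hom.app (op ⊤)).hom.comp
      (homAddEquiv (⊤ : Opens X) (CohCx.sectSupp U G)).toAddMonoidHom)
  naturality G G' g := by
    refine AddCommGrpCat.hom_ext (AddMonoidHom.ext fun φ => ?_)
    change (ssι U G').hom.app (op ⊤) (homEquiv ⊤ _ (φ ≫ (LocCohZ.sectSuppF U).map g)) =
      g.hom.app (op ⊤) ((ssι U G).hom.app (op ⊤) (homEquiv ⊤ _ φ))
    have h1 := homEquiv_comp (⊤ : Opens X) φ ((LocCohZ.sectSuppF U).map g)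
    have h2 := sectSuppF_map_app U g ⊤ (homEquiv ⊤ _ φ)
    exact (congrArg ((ssι U G').hom.app (op ⊤)) h1).trans h2

lemma suppEvalNat_app_apply (G : CohTop.Ab X)
    (φ : ZU (Opens.grothendieckTopology X) (⊤ : Opens X) ⟶ (LocCohZ.sectSuppF U).obj G) :
    (suppEvalNat U).app G φ = (ssι U G).hom.app (op ⊤) (homEquiv ⊤ _ φ) := rfl

/-- `Hom(ℤ_X, Γ_Z -) ≅ Hom(ℤ_X/ℤ_U, -)`. -/
noncomputable def suppHomIso :
    LocCohZ.sectSuppF U ⋙ homF (ZU (Opens.grothendieckTopology X) (⊤ : Opens X)) ≅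
      homF (LocCohZ.zq (le_top : U ≤ ⊤)) :=
  isoOfSameRange (suppEvalNat U) (zqEvalNat _)
    (fun G => zqEval_injective _ G)
    (fun G φ => by
      obtain ⟨ψ, hψ⟩ := exists_zqEval_eq (le_top : U ≤ ⊤) G ((suppEvalNat U).app G φ)
        ((res_top_inf_iff U G _).1 (res_ssι_eq_zero U G ⊤ _))
      exact ⟨ψ, hψ⟩)
    (fun G => (ssι_app_injective U G ⊤).comp (homEquiv (⊤ : Opens X) _).injective)
    (fun G ψ => by
      obtain ⟨t, ht⟩ := exists_ssι_eq U G ⊤ (zqEval (le_top : U ≤ ⊤) G ψ)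
        ((res_top_inf_iff U G _).2 (zqEval_res (le_top : U ≤ ⊤) G ψ))
      refine ⟨(homEquiv (⊤ : Opens X) (CohCx.sectSupp U G)).symm t, ?_⟩
      exact (congrArg ((ssι U G).hom.app (op ⊤))
        (Equiv.apply_symm_apply (homEquiv (⊤ : Opens X) (CohCx.sectSupp U G)) t)).trans ht)

/-- `Γ_Z` of an injective sheaf is `Hom(ℤ_X, -)`-acyclic. -/
lemma pAcyc_sectSupp_of_injective (Q : CohTop.Ab X) (hQ : Injective Q) :
    PAcyc.{u} (ZU (Opens.grothendieckTopology X) (⊤ : Opens X)) ((LocCohZ.sectSuppF U).obj Q) := by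
  intro k
  haveI : TopCat.Sheaf.IsFlasque Q := isFlasque_of_injective Q
  haveI : TopCat.Sheaf.IsFlasque (CohCx.sectSupp U Q) := isFlasque_sectSupp U Q
  exact subsingleton_ext_of_isFlasque k (CohCx.sectSupp U Q) ⊤

end Groth.Agent.LD.GSS
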