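import Groth.Agent.Lib.Lead.GSS.Groth
import Groth.Agent.Lib.Lead.GSS.HomIso
import Groth.Agent.Lib.Lead.LCZ.Main
import Groth.Agent.Lib.Lead.SC.RPushComp

/-! # `Hom(ℤ_V/ℤ_W, -)` as a subfunctor of sections; the spectral sequence for supports under `f_*`. -/

universe u
open CategoryTheory Limits Opposite Abelian TopologicalSpace

namespace Groth.Agent.LD.GSS
open Groth.Agent.LD.SC Groth.Agent.LD.LCZ

variable {X : TopCat.{u}}

/-- the sections functor `G ↦ G(V)`. -/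
noncomputable abbrev secF (V : Opens X) : CohTop.Ab X ⥤ AddCommGrpCat.{u} :=
  (sheafSections (Opens.grothendieckTopology X) AddCommGrpCat.{u}).obj (op V)

section
variable {W V : Opens X} (h : W ≤ V)

lemma zqEval_add (G : CohTop.Ab X) (φ ψ : LocCohZ.zq h ⟶ G) :
    zqEval h G (φ + ψ) = zqEval h G φ + zqEval h G ψ := by
  unfold zqEval
  rw [Preadditive.comp_add]
  exact homEquiv_add V _ _

/-- evaluation `Hom(ℤ_V/ℤ_W, G) → G(V)` as a natural transformation. -/
noncomputable def zqEvalNat : homF (LocCohZ.zq h) ⟶ secF V where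
  app G := AddCommGrpCat.ofHom
    { toFun := zqEval h G, map_zero' := zqEval_zero h G, map_add' := zqEval_add h G }
  naturality G G' g := by
    refine AddCommGrpCat.hom_ext (AddMonoidHom.ext fun φ => ?_)
    exact zqEval_comp h φ g

lemma zqEvalNat_app_apply (G : CohTop.Ab X) (φ : LocCohZ.zq h ⟶ G) :
    (zqEvalNat h).app G φ = zqEval h G φ := rfl

end

section Push

variable {Y : TopCat.{u}} (f : X ⟶ Y) (V : Opens Y)

example : (Opens.map f).obj ⊤ = ⊤ := rfl

/-- evaluation `Hom(ℤ_Y/ℤ_V, f_* G) → G(X)`. -/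
noncomputable def pushEvalNat :
    CohTop.push f ⋙ homF (LocCohZ.zq (le_top : V ≤ ⊤)) ⟶ secF (⊤ : Opens X) where
  app G := (zqEvalNat (le_top : V ≤ ⊤)).app ((CohTop.push f).obj G)
  naturality G G' g := (zqEvalNat (le_top : V ≤ ⊤)).naturality ((CohTop.push f).map g)

/-- `Hom(ℤ_Y/ℤ_V, f_* -) ≅ Hom(ℤ_X/ℤ_{f⁻¹V}, -)`. -/
noncomputable def pushHomIso :
    CohTop.push f ⋙ homF (LocCohZ.zq (le_top : V ≤ ⊤)) ≅
      homF (LocCohZ.zq (le_top : (Opens.map f).obj V ≤ ⊤)) :=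
  isoOfSameRange (pushEvalNat f V) (zqEvalNat _)
    (fun G => zqEval_injective _ G)
    (fun G φ => by
      obtain ⟨ψ, hψ⟩ := exists_zqEval_eq (le_top : (Opens.map f).obj V ≤ ⊤) G
        (zqEval (le_top : V ≤ ⊤) ((CohTop.push f).obj G) φ)
        (zqEval_res (le_top : V ≤ ⊤) ((CohTop.push f).obj G) φ)
      exact ⟨ψ, hψ⟩)
    (fun G => zqEval_injective _ _)
    (fun G ψ => by
      obtain ⟨φ, hφ⟩ := exists_zqEval_eq (le_top : V ≤ ⊤) ((CohTop.push f).obj G)
        (zqEval (le_top : (Opens.map f).obj V ≤ ⊤) G ψ)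
        (zqEval_res (le_top : (Opens.map f).obj V ≤ ⊤) G ψ)
      exact ⟨φ, hφ⟩)

end Push

end Groth.Agent.LD.GSS
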